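/-
The functions evaluated in the checks for the classes of masks of a base of Fi23.
-/
import Cfsg.Agent.Lib.CosetEnum.Fi23Syl.Fun
import Cfsg.Agent.Lib.CosetEnum.M23Thompson.Data

set_option autoImplicit false
set_option maxRecDepth 1000000

namespace CfsgLib.CosetEnum.M23Thompson

open CfsgLib.CosetEnum

/-- The bit `i` of a mask. -/
noncomputable def bit (m i : ℕ) : Bool := Nat.beq (fld m i 1) 1

/-- The image of a mask among the first `n` members of the basis. -/
noncomputable def img (c : List ℕ) : ℕ → ℕ → ℕ
  | 0, _ => 0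
  | n + 1, m => Nat.xor (img c n m) (Bool.rec 0 (c.getD n 0) (bit m n))

/-- The members of a class. -/
noncomputable def mem (c : ℕ) : List ℕ := (trees.getD c []).map Prod.fst

/-- The bitset of a class. -/
noncomputable def bits (c : ℕ) : ℕ := (mem c).foldl (fun s m => Nat.lor s (Nat.shiftLeft 1 m)) 0

/-- The members of a union of classes and of the mask of the base point. -/
noncomputable def union (s : ℕ) : List ℕ :=
  1 :: ((List.range 5).flatMap fun c => if bit s c then mem c else [])

/-- Their bitset. -/
noncomputable def ubits (s : ℕ) : ℕ := (union s).foldl (fun t m => Nat.lor t (Nat.shiftLeft 1 m)) 0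

/-- The number of members whose sum with `p` is a member. -/
noncomputable def cnt (s p : ℕ) : ℕ :=
  force (ubits s) fun U => (union s).countP fun q => bit U (Nat.xor p q)

/-- A union of classes is one of the two of size 23, one of the two treated apart, or is not homogeneous. -/
noncomputable def okSub (s : ℕ) : Bool :=
  [0, 1, 2, 7, 31].any (fun t => Nat.beq s t) ||
    (List.range 5).any fun c => bit s c && !Nat.beq (cnt s ((mem c).getD 0 0)) (cnt s 1)

/-- One step in the tree of a class. -/
noncomputable def okStep (c i : ℕ) : Bool :=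
  let e := (trees.getD c []).getD i (0, 0, 0)
  Nat.blt e.1 2048 && Nat.ble 2 e.1 && (Nat.beq i 0 || (Nat.blt e.2.1 i && Nat.blt e.2.2 2 &&
    Nat.beq (img (cols.getD e.2.2 []) 11 ((trees.getD c []).getD e.2.1 (0, 0, 0)).1) e.1))

/-- The element with the given number acts on the base as recorded. -/
noncomputable def okEl (k : ℕ) : Bool :=
  let l := els.getD k []
  let p := perms.getD k []
  let c := cols.getD k []
  l.all (fun v => v.all fun x => Nat.blt x 10) &&
    allN 23 (fun j => force j fun j => force (p.getD j 23) fun q => Nat.blt q 23 &&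
      Nat.beq (Fi23Syl.act l (Fi23Syl.bpts.getD j 0)) (Fi23Syl.bpts.getD q 0)) &&
    allN 11 (fun i => force i fun i => Nat.beq (c.getD i 0) (Fi23Syl.vecs.getD (p.getD (Fi23Syl.bidx.getD i 0) 23) 0)) &&
    Nat.beq (p.getD 0 23) 0

/-- The product with a transposition has neither exponent two nor three, nor is trivial. -/
noncomputable def okWit (w : ℕ × List ℕ × ℕ × ℕ × ℕ) : Bool :=
  let l := Fi23Syl.ebitsN 11 w.1 ++ [w.2.1]
  Nat.blt w.1 2048 && w.2.1.all (fun x => Nat.blt x 10) && Nat.blt w.2.2.1 31671 && Nat.blt w.2.2.2.1 31671 &&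
    Nat.blt w.2.2.2.2 31671 && !Nat.beq (Fi23Syl.act l w.2.2.1) w.2.2.1 &&
    !Nat.beq (Fi23Syl.act (l ++ l) w.2.2.2.1) w.2.2.2.1 &&
    !Nat.beq (Fi23Syl.act (l ++ (l ++ l)) w.2.2.2.2) w.2.2.2.2

/-- The classes are as named: the other members of the base, their sums with the base point, the sums of two, and
the sums of three with the base point; and all masks above one are in a class. -/
noncomputable def okClasses : Bool :=
  force (bits 0) fun b0 => force (bits 1) fun b1 => force (bits 2) fun b2 => force (bits 3) fun b3 =>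
  force (bits 4) fun b4 =>
    allN 2048 (fun m => force m fun m => (Nat.ble m 1 || bit b0 m || bit b1 m || bit b2 m || bit b3 m || bit b4 m) &&
      (!(bit b0 m) || (bit b1 (Nat.xor m 1) && !bit b1 m && !bit b2 m)) &&
      (!(bit b1 m) || bit b0 (Nat.xor m 1)) && (!(bit b2 m) || bit b3 (Nat.xor m 1))) &&
    allN 23 (fun j => Nat.beq j 0 || bit b0 (Fi23Syl.vecs.getD j 0)) &&
    (mem 0).all (fun m => Fi23Syl.vecs.contains m) &&
    Nat.beq (mem 0).length 22 && (mem 1).length == 22

end CfsgLib.CosetEnum.M23Thompson
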