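/-
The checks for the classes of masks of a base of Fi23.
-/
import Cfsg.Agent.Lib.CosetEnum.M23Thompson.Fun

set_option autoImplicit false
set_option maxRecDepth 1000000

namespace CfsgLib.CosetEnum.M23Thompson

open CfsgLib.CosetEnum

theorem el_ok : allN 2 (fun k => force k okEl) = true := by decide +kernel

theorem swap_ok : (perms.getD 1 []).getD 1 23 = 2 ∧ (perms.getD 1 []).getD 2 23 = 1 := by decide +kernel

theorem steps_ok : allN 5 (fun c => force c fun c => allN (trees.getD c []).length fun i => force i (okStep c)) = true := by
  decide +kernel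

theorem classes_ok : okClasses = true := by decide +kernel

theorem large_ok : ((mem 2).take 23).Nodup ∧ ((mem 3).take 23).Nodup ∧ ((mem 4).take 23).Nodup ∧
    23 ≤ (mem 2).length ∧ 23 ≤ (mem 3).length ∧ 23 ≤ (mem 4).length ∧ (mem 0).Nodup ∧ (mem 1).Nodup := by
  decide +kernel

theorem reps_ok : wits.map Prod.fst = [(mem 1).getD 0 0, (mem 2).getD 0 0, (mem 3).getD 0 0, (mem 4).getD 0 0] := by
  decide +kernel

theorem wit_ok : wits.all okWit = true := by decide +kernel

theorem sub_ok : allN 32 (fun s => force s okSub) = true := by decide +kernel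

end CfsgLib.CosetEnum.M23Thompson
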