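/-
The five classes of masks as finite sets, and the homogeneity counts of their unions.
-/
import Cfsg.Agent.Lib.CosetEnum.M23Thompson.Checks
import Cfsg.Agent.Lib.CosetEnum.Fi23Syl.Base

set_option autoImplicit false
set_option maxRecDepth 1000000

namespace CfsgLib.CosetEnum.M23Thompson

open CfsgLib.CosetEnum

theorem bit_eq (m i : ℕ) : bit m i = m.testBit i := Fi23Syl.bitB_eq m i

theorem bit_foldl (i : ℕ) : ∀ (l : List ℕ) (a : ℕ),
    (l.foldl (fun s m => Nat.lor s (Nat.shiftLeft 1 m)) a).testBit i = true ↔ a.testBit i = true ∨ i ∈ l := by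
  intro l
  induction l with
  | nil => simp
  | cons x l ih =>
    intro a
    rw [List.foldl_cons, ih, show Nat.lor a (Nat.shiftLeft 1 x) = a ||| (1 <<< x) from rfl, Nat.testBit_lor,
      Nat.one_shiftLeft, Nat.testBit_two_pow, Bool.or_eq_true, List.mem_cons, decide_eq_true_eq,
      eq_comm (a := i) (b := x), or_assoc]

theorem bit_bits (c i : ℕ) : bit (bits c) i = true ↔ i ∈ mem c := by
  rw [bit_eq, bits, bit_foldl]; simp

theorem bit_ubits (s i : ℕ) : bit (ubits s) i = true ↔ i ∈ union s := by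
  rw [bit_eq, ubits, bit_foldl]; simp

theorem mem_union (s m : ℕ) : m ∈ union s ↔ m = 1 ∨ ∃ c < 5, bit s c = true ∧ m ∈ mem c := by
  simp only [union, List.mem_cons, List.mem_flatMap, List.mem_range]
  refine or_congr Iff.rfl ⟨?_, ?_⟩
  · rintro ⟨c, hc, h⟩
    cases hb : bit s c <;> simp only [hb] at h
    · simp at h
    · exact ⟨c, hc, hb, h⟩
  · rintro ⟨c, hc, hb, h⟩
    exact ⟨c, hc, by simp [hb, h]⟩

theorem classes_spec : (∀ m, 2 ≤ m → m < 2048 → ∃ c < 5, m ∈ mem c) ∧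
    (∀ m, m < 2048 → m ∈ mem 0 → Nat.xor m 1 ∈ mem 1 ∧ m ∉ mem 1 ∧ m ∉ mem 2) ∧
    (∀ m, m < 2048 → m ∈ mem 1 → Nat.xor m 1 ∈ mem 0) ∧
    (∀ m, m < 2048 → m ∈ mem 2 → Nat.xor m 1 ∈ mem 3) ∧
    (∀ j < 23, j ≠ 0 → Fi23Syl.vecs.getD j 0 ∈ mem 0) ∧ (∀ m ∈ mem 0, m ∈ Fi23Syl.vecs) ∧
    (mem 0).length = 22 ∧ (mem 1).length = 22 := by
  have h := classes_ok
  simp only [okClasses, force_eq, Bool.and_eq_true, List.all_eq_true, beq_iff_eq] at h
  obtain ⟨⟨⟨⟨h1, h2⟩, h3⟩, h4⟩, h5⟩ := h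
  have g := fun m (hm : m < 2048) => allN_spec h1 m hm
  simp only [Bool.and_eq_true, Bool.or_eq_true, Bool.not_eq_true', Bool.eq_false_iff, ne_eq, bit_bits] at g
  refine ⟨fun m h2 hm => ?_, fun m hm hk => ?_, fun m hm hk => ?_, fun m hm hk => ?_, fun j hj h0 => ?_, ?_,
    Nat.eq_of_beq_eq_true h4, h5⟩
  · rcases (g m hm).1.1.1 with ((((h | h) | h) | h) | h) | h
    · have := Nat.le_of_ble_eq_true h; omega
    exacts [⟨0, by norm_num, h⟩, ⟨1, by norm_num, h⟩, ⟨2, by norm_num, h⟩, ⟨3, by norm_num, h⟩, ⟨4, by norm_num, h⟩]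
  · rcases (g m hm).1.1.2 with h | h
    · exact absurd hk h
    · exact ⟨h.1.1, h.1.2, h.2⟩
  · exact (g m hm).1.2.resolve_left fun h => h hk
  · exact (g m hm).2.resolve_left fun h => h hk
  · have := allN_spec h2 j hj
    rw [Bool.or_eq_true, bit_bits] at this
    exact this.resolve_left fun h => h0 (Nat.eq_of_beq_eq_true h)
  · intro m hm
    simpa using h3 m hm

theorem union_top : (union 31).length = 2047 := by decide +kernel

theorem pair_ok : (mem 0).getD 0 0 = Fi23Syl.vecs.getD 1 0 ∧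
    Nat.xor (Fi23Syl.vecs.getD 1 0) (Fi23Syl.vecs.getD 2 0) ∈ mem 2 := by decide +kernel

theorem sub_spec {s : ℕ} (hs : s < 32) : (s = 0 ∨ s = 1 ∨ s = 2 ∨ s = 7 ∨ s = 31) ∨
    ∃ c < 5, bit s c = true ∧ cnt s ((mem c).getD 0 0) ≠ cnt s 1 := by
  have h := allN_spec sub_ok s hs
  simp only [force_eq, okSub, Bool.or_eq_true, List.any_eq_true, List.mem_range, Bool.and_eq_true,
    Bool.not_eq_true'] at h
  rcases h with ⟨t, ht, e⟩ | ⟨c, hc, hb, hne⟩
  · left
    rw [Nat.eq_of_beq_eq_true e]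
    simpa using ht
  · exact Or.inr ⟨c, hc, hb, Nat.ne_of_beq_eq_false hne⟩

end CfsgLib.CosetEnum.M23Thompson
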