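/-
A set of masks which is homogeneous under linear maps extending the stabiliser of the base point consists of the
base point and 22 further masks.
-/
import Cfsg.Agent.Lib.CosetEnum.M23Thompson.Sets
import Mathlib.GroupTheory.Perm.Cycle.Type

set_option autoImplicit false
set_option maxRecDepth 1000000

namespace CfsgLib.CosetEnum.M23Thompson

open CfsgLib.CosetEnum

/-- The maps of masks we argue with and the set they respect. -/
structure Homog (Mv : (ℕ → ℕ) → Prop) (O : Finset ℕ) : Prop where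
  lt : ∀ {σ}, Mv σ → ∀ {m}, m < 2048 → σ m < 2048
  add : ∀ {σ}, Mv σ → ∀ {a b}, a < 2048 → b < 2048 → σ (Nat.xor a b) = Nat.xor (σ a) (σ b)
  one : Mv id
  comp : ∀ {σ τ}, Mv σ → Mv τ → Mv (σ ∘ τ)
  inv : ∀ {σ}, Mv σ → ∃ τ, Mv τ ∧ ∀ m < 2048, τ (σ m) = m ∧ σ (τ m) = m
  stab : ∀ {σ}, Mv σ → σ 1 = 1 → ∀ m ∈ mem 0, σ m ∈ mem 0
  cls : ∀ c < 5, ∀ m ∈ mem c, ∃ σ, Mv σ ∧ σ 1 = 1 ∧ σ ((mem c).getD 0 0) = m
  swap : ∃ σ, Mv σ ∧ σ 1 = 1 ∧ σ (Fi23Syl.vecs.getD 1 0) = Fi23Syl.vecs.getD 2 0 ∧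
    σ (Fi23Syl.vecs.getD 2 0) = Fi23Syl.vecs.getD 1 0
  sub : ∀ m ∈ O, m < 2048 ∧ m ≠ 0
  base : 1 ∈ O
  maps : ∀ {σ}, Mv σ → ∀ m ∈ O, σ m ∈ O
  trans : ∀ p ∈ O, ∃ σ, Mv σ ∧ σ 1 = p
  two : ∃ p ∈ O, p ≠ 1

theorem xor_right_cancel (a b : ℕ) : Nat.xor (Nat.xor a b) b = a := by
  show (a ^^^ b) ^^^ b = a
  rw [Nat.xor_assoc, Nat.xor_self, Nat.xor_zero]

theorem xor_left_cancel (a b : ℕ) : Nat.xor a (Nat.xor a b) = b := by
  show a ^^^ (a ^^^ b) = b
  rw [← Nat.xor_assoc, Nat.xor_self, Nat.zero_xor]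

theorem xor_comm' (a b : ℕ) : Nat.xor a b = Nat.xor b a := Nat.xor_comm a b

namespace Homog

variable {Mv : (ℕ → ℕ) → Prop} {O : Finset ℕ} (H : Homog Mv O)
include H

theorem inj {σ : ℕ → ℕ} (hσ : Mv σ) {a b : ℕ} (ha : a < 2048) (hb : b < 2048) (e : σ a = σ b) : a = b := by
  obtain ⟨τ, -, hτ⟩ := H.inv hσ
  rw [← (hτ a ha).1, e, (hτ b hb).1]

/-- Whether the set contains a mask depends only on its class. -/
theorem class_iff {c : ℕ} (hc : c < 5) {m : ℕ} (hm : m ∈ mem c) (hlt : (mem c).getD 0 0 < 2048) :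
    m ∈ O ↔ (mem c).getD 0 0 ∈ O := by
  obtain ⟨σ, hσ, -, e⟩ := H.cls c hc m hm
  obtain ⟨τ, hτ, hinv⟩ := H.inv hσ
  refine ⟨fun h => ?_, fun h => e ▸ H.maps hσ _ h⟩
  have := H.maps hτ m h
  rwa [← e, (hinv _ hlt).1] at this

end Homog

theorem head_mem {c : ℕ} (hc : c < 5) : (mem c).getD 0 0 ∈ mem c := by
  have h : ∀ c < 5, 0 < (mem c).length := by decide +kernel
  rw [List.getD_eq_getElem _ _ (h c hc)]
  exact List.getElem_mem _

theorem mem_range' {c m : ℕ} (hc : c < 5) (hm : m ∈ mem c) : 2 ≤ m ∧ m < 2048 := by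
  obtain ⟨e, he, rfl⟩ := List.mem_map.mp hm
  obtain ⟨i, hi, hie⟩ := List.getElem_of_mem he
  have h := allN_spec steps_ok c hc
  rw [force_eq] at h
  have h2 := allN_spec h i hi
  simp only [force_eq, okStep, Bool.and_eq_true, blt_iff] at h2
  rw [List.getD_eq_getElem _ _ hi, hie] at h2
  exact ⟨Nat.le_of_ble_eq_true h2.1.2, h2.1.1⟩

theorem union_lt {s m : ℕ} (hm : m ∈ union s) : 1 ≤ m ∧ m < 2048 := by
  rcases (mem_union s m).mp hm with rfl | ⟨c, hc, -, h⟩
  · norm_num
  · have := mem_range' hc h; omega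

theorem union_top_mem {m : ℕ} (h1 : 1 ≤ m) (h2 : m < 2048) : m ∈ union 31 := by
  rw [mem_union]
  by_cases h : m = 1
  · exact Or.inl h
  obtain ⟨c, hc, hm⟩ := classes_spec.1 m (by omega) h2
  refine Or.inr ⟨c, hc, ?_, hm⟩
  interval_cases c <;> decide +kernel

theorem nodup_top : (union 31).Nodup := by
  have h : Finset.Ico 1 2048 ⊆ (union 31).toFinset := fun m hm => by
    rw [List.mem_toFinset]
    exact union_top_mem (Finset.mem_Ico.mp hm).1 (Finset.mem_Ico.mp hm).2
  have h' := Finset.card_le_card h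
  rw [Nat.card_Ico] at h'
  have h2 := List.toFinset_card_le (union 31)
  rw [union_top] at h2
  exact List.dedup_eq_self.mp ((List.dedup_sublist _).eq_of_length (by
    rw [← List.card_toFinset, union_top]; omega))

theorem nodup_union {s : ℕ} (hs : s < 32) : (union s).Nodup := by
  refine nodup_top.sublist ?_
  simp only [union]
  refine List.Sublist.cons_cons 1 ?_
  simp only [List.range_succ, List.range_zero, List.flatMap_append, List.flatMap_cons, List.flatMap_nil,
    List.nil_append, List.append_nil]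
  have e : ∀ c, c < 5 → bit 31 c = true := by decide +kernel
  rw [e 0 (by norm_num), e 1 (by norm_num), e 2 (by norm_num), e 3 (by norm_num), e 4 (by norm_num)]
  have k : ∀ c, List.Sublist (if bit s c = true then mem c else []) (mem c) := fun c => by
    split
    · exact List.Sublist.refl _
    · exact List.nil_sublist _
  exact ((((k 0).append (k 1)).append (k 2)).append (k 3)).append (k 4)

theorem cnt_eq {s : ℕ} (hs : s < 32) (p : ℕ) :
    cnt s p = ((union s).toFinset.filter fun q => Nat.xor p q ∈ (union s).toFinset).card := by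
  classical
  have e : ((union s).toFinset.filter fun q => Nat.xor p q ∈ (union s).toFinset) =
      ((union s).filter fun q => bit (ubits s) (Nat.xor p q)).toFinset := by
    ext q
    simp only [Finset.mem_filter, List.mem_toFinset, List.mem_filter, bit_ubits]
  rw [e, List.toFinset_card_of_nodup ((nodup_union hs).filter _), ← List.countP_eq_length_filter]
  simp only [cnt, force_eq]

namespace Homog

variable {Mv : (ℕ → ℕ) → Prop} {O : Finset ℕ} (H : Homog Mv O)
include H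

theorem mem_lt {m : ℕ} (hm : m ∈ O) : m < 2048 := (H.sub m hm).1

/-- The set is a union of classes and the base point. -/
theorem exists_union : ∃ s < 32, O = (union s).toFinset := by
  classical
  let b : Fin 5 → Bool := fun c => decide ((mem c).getD 0 0 ∈ O)
  let s := (Finset.univ : Finset (Fin 5)).sum fun c => if b c then 2 ^ (c : ℕ) else 0
  have key : ∀ b : Fin 5 → Bool, ((Finset.univ : Finset (Fin 5)).sum fun c => if b c then 2 ^ (c : ℕ) else 0) < 32 ∧
      ∀ c : Fin 5, ((Finset.univ : Finset (Fin 5)).sum fun c => if b c then 2 ^ (c : ℕ) else 0).testBit c = b c := by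
    decide
  refine ⟨s, (key b).1, ?_⟩
  have hb : ∀ c (hc : c < 5), bit s c = true ↔ (mem c).getD 0 0 ∈ O := fun c hc => by
    rw [bit_eq, (key b).2 ⟨c, hc⟩]; simp [b]
  ext m
  rw [List.mem_toFinset, mem_union]
  constructor
  · intro hm
    by_cases h1 : m = 1
    · exact Or.inl h1
    obtain ⟨c, hc, hcm⟩ := classes_spec.1 m (by have := (H.sub m hm).2; omega) (H.sub m hm).1
    exact Or.inr ⟨c, hc, (hb c hc).mpr ((H.class_iff hc hcm (mem_range' hc (head_mem hc)).2).mp hm), hcm⟩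
  · rintro (rfl | ⟨c, hc, hbit, hcm⟩)
    · exact H.base
    · exact (H.class_iff hc hcm (mem_range' hc (head_mem hc)).2).mpr ((hb c hc).mp hbit)

/-- The counts agree at all points of the set. -/
theorem count_eq {p : ℕ} (hp : p ∈ O) :
    (O.filter fun q => Nat.xor p q ∈ O).card = (O.filter fun q => Nat.xor 1 q ∈ O).card := by
  obtain ⟨σ, hσ, rfl⟩ := H.trans p hp
  obtain ⟨τ, hτ, hinv⟩ := H.inv hσ
  symm
  refine Finset.card_bij (fun q _ => σ q) ?_ ?_ ?_
  · intro q hq
    rw [Finset.mem_filter] at hq ⊢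
    exact ⟨H.maps hσ q hq.1, by rw [← H.add hσ (H.mem_lt H.base) (H.mem_lt hq.1)]; exact H.maps hσ _ hq.2⟩
  · intro a ha b hb e
    exact H.inj hσ (H.mem_lt (Finset.mem_filter.mp ha).1) (H.mem_lt (Finset.mem_filter.mp hb).1) e
  · intro q hq
    rw [Finset.mem_filter] at hq
    refine ⟨τ q, Finset.mem_filter.mpr ⟨H.maps hτ q hq.1, ?_⟩, (hinv q (H.mem_lt hq.1)).2⟩
    have h1 : τ (σ 1) = 1 := (hinv 1 (by norm_num)).1
    have h := H.maps hτ _ hq.2
    rwa [H.add hτ (H.lt hσ (by norm_num)) (H.mem_lt hq.1), h1] at h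

end Homog

end CfsgLib.CosetEnum.M23Thompson
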