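/-
The two homogeneous unions of classes of size other than 23 are impossible: one would carry a cyclic tournament
on four points, the other a fixed-point-free map of order three on 45034 arcs.
-/
import Cfsg.Agent.Lib.CosetEnum.M23Thompson.Comb

set_option autoImplicit false
set_option maxRecDepth 1000000

namespace CfsgLib.CosetEnum.M23Thompson

open CfsgLib.CosetEnum

/-- The representative of the first class. -/
noncomputable def a0 : ℕ := (mem 0).getD 0 0

theorem a0_mem : a0 ∈ mem 0 := head_mem (by norm_num)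

theorem a0_lt : a0 < 2048 := (mem_range' (by norm_num) a0_mem).2

theorem mem0_one {q : ℕ} (hq : q ∈ mem 0) : Nat.xor q 1 ∈ mem 1 ∧ q ∉ mem 1 :=
  ⟨(classes_spec.2.1 q (mem_range' (by norm_num) hq).2 hq).1, (classes_spec.2.1 q (mem_range' (by norm_num) hq).2 hq).2.1⟩

theorem disjoint_ok : allN 5 (fun c => allN 5 fun d => Nat.beq c d || Nat.beq (Nat.land (bits c) (bits d)) 0) = true := by
  decide +kernel

theorem class_unique {c d m : ℕ} (hc : c < 5) (hd : d < 5) (h : m ∈ mem c) (h' : m ∈ mem d) : c = d := by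
  have k := allN_spec (allN_spec disjoint_ok c hc) d hd
  rw [Bool.or_eq_true] at k
  rcases k with k | k
  · exact Nat.eq_of_beq_eq_true k
  · have e : bit (Nat.land (bits c) (bits d)) m = true := by
      rw [bit_eq, show Nat.land (bits c) (bits d) = bits c &&& bits d from rfl, Nat.testBit_and, ← bit_eq, ← bit_eq,
        (bit_bits c m).mpr h, (bit_bits d m).mpr h']
      rfl
    rw [Nat.eq_of_beq_eq_true k, bit_eq, Nat.zero_testBit] at e
    exact absurd e (by decide)

/-- An arc: the image of the base point and the first representative. -/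
def Arc (Mv : (ℕ → ℕ) → Prop) (p q : ℕ) : Prop := ∃ σ, Mv σ ∧ σ 1 = p ∧ σ a0 = q

/-- The orbit of a mask under the maps fixing the base point. -/
noncomputable def orb (Mv : (ℕ → ℕ) → Prop) (x : ℕ) : Finset ℕ := by
  classical
  exact (Finset.range 2048).filter fun m => ∃ σ, Mv σ ∧ σ 1 = 1 ∧ σ x = m

/-- The images of the base point and a mask. -/
noncomputable def arcs (Mv : (ℕ → ℕ) → Prop) (O : Finset ℕ) (x : ℕ) : Finset (ℕ × ℕ) := by
  classical
  exact (O ×ˢ Finset.range 2048).filter fun e => ∃ σ, Mv σ ∧ σ 1 = e.1 ∧ σ x = e.2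

namespace Homog

variable {Mv : (ℕ → ℕ) → Prop} {O : Finset ℕ} (H : Homog Mv O)
include H

theorem mem_orb {x m : ℕ} : m ∈ orb Mv x ↔ m < 2048 ∧ ∃ σ, Mv σ ∧ σ 1 = 1 ∧ σ x = m := by
  simp [orb]

theorem mem_arcs {x : ℕ} {e : ℕ × ℕ} :
    e ∈ arcs Mv O x ↔ (e.1 ∈ O ∧ e.2 < 2048) ∧ ∃ σ, Mv σ ∧ σ 1 = e.1 ∧ σ x = e.2 := by
  simp [arcs]

theorem arc_of_mem {m : ℕ} (hm : m ∈ mem 0) : Arc Mv 1 m :=
  H.cls 0 (by norm_num) m hm

theorem arc_map {p q : ℕ} (h : Arc Mv p q) {σ : ℕ → ℕ} (hσ : Mv σ) : Arc Mv (σ p) (σ q) := by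
  obtain ⟨τ, hτ, rfl, rfl⟩ := h
  exact ⟨σ ∘ τ, H.comp hσ hτ, rfl, rfl⟩

theorem stab1 {σ : ℕ → ℕ} (hσ : Mv σ) (h1 : σ 1 = 1) {m : ℕ} (hm : m ∈ mem 1) : σ m ∈ mem 1 := by
  have hlt := (mem_range' (by norm_num) hm).2
  have h0 := classes_spec.2.2.1 m hlt hm
  have h := mem0_one (H.stab hσ h1 _ h0)
  rw [H.add hσ hlt (by norm_num), h1, xor_right_cancel] at h
  exact h.1

/-- Of two complementary neighbours at most one is an arc. -/
theorem excl {p q : ℕ} (h : Arc Mv p q) (h' : Arc Mv p (Nat.xor p q)) : False := by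
  obtain ⟨σ, hσ, e1, e2⟩ := h
  obtain ⟨ρ, hρ, f1, f2⟩ := h'
  obtain ⟨τ, hτ, hinv⟩ := H.inv hσ
  have h1 : τ (ρ 1) = 1 := by rw [f1, ← e1, (hinv 1 (by norm_num)).1]
  have h2 : τ (ρ a0) = Nat.xor a0 1 := by
    rw [f2, ← e1, ← e2, H.add hτ (H.lt hσ (by norm_num)) (H.lt hσ a0_lt), (hinv 1 (by norm_num)).1,
      (hinv a0 a0_lt).1, xor_comm']
  have h3 := H.stab (σ := τ ∘ ρ) (H.comp hτ hρ) h1 a0 a0_mem
  rw [show (τ ∘ ρ) a0 = Nat.xor a0 1 from h2] at h3
  exact (mem0_one h3).2 (mem0_one a0_mem).1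

/-- The fibre of the arcs of a mask. -/
theorem card_arcs {x : ℕ} (hx : x < 2048) : (arcs Mv O x).card = O.card * (orb Mv x).card := by
  classical
  choose f hf hf1 using fun p : O => H.trans p p.2
  rw [← Finset.card_attach (s := O), ← Finset.card_product]
  refine (Finset.card_bij (fun e _ => ((e.1 : ℕ), f e.1 e.2)) ?_ ?_ ?_).symm
  · rintro ⟨p, m⟩ he
    rw [Finset.mem_product] at he
    obtain ⟨hm, σ, hσ, h1, h2⟩ := H.mem_orb.mp he.2
    refine H.mem_arcs.mpr ⟨⟨p.2, H.lt (hf p) hm⟩, f p ∘ σ, H.comp (hf p) hσ, ?_, ?_⟩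
    · show f p (σ 1) = p
      rw [h1, hf1]
    · show f p (σ x) = f p m
      rw [h2]
  · rintro ⟨p, m⟩ he ⟨q, k⟩ hk e
    rw [Finset.mem_product] at he hk
    obtain ⟨e1, e2⟩ := Prod.mk.inj e
    have hpq : p = q := Subtype.ext e1
    subst hpq
    exact Prod.ext rfl (H.inj (hf p) (H.mem_orb.mp he.2).1 (H.mem_orb.mp hk.2).1 e2)
  · rintro ⟨p, q⟩ he
    obtain ⟨⟨hp, hq⟩, σ, hσ, h1, h2⟩ := H.mem_arcs.mp he
    obtain ⟨τ, hτ, hinv⟩ := H.inv (hf ⟨p, hp⟩)
    refine ⟨(⟨p, hp⟩, τ q), Finset.mem_product.mpr ⟨Finset.mem_attach _ _, H.mem_orb.mpr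
      ⟨H.lt hτ hq, τ ∘ σ, H.comp hτ hσ, ?_, ?_⟩⟩, Prod.ext rfl (hinv q hq).2⟩
    · show τ (σ 1) = 1
      rw [h1, show (p, q).1 = f ⟨p, hp⟩ 1 from (hf1 ⟨p, hp⟩).symm, (hinv 1 (by norm_num)).1]
    · show τ (σ x) = τ q
      rw [h2]

theorem orb_le {p : ℕ} (hp : p ∈ mem 0 ∨ p ∈ mem 1) : (orb Mv p).card ≤ 22 := by
  rcases hp with hp | hp
  · refine (Finset.card_le_card (t := (mem 0).toFinset) fun m hm => ?_).trans
      ((List.toFinset_card_le _).trans classes_spec.2.2.2.2.2.2.1.le)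
    obtain ⟨-, σ, hσ, h1, rfl⟩ := H.mem_orb.mp hm
    exact List.mem_toFinset.mpr (H.stab hσ h1 p hp)
  · refine (Finset.card_le_card (t := (mem 1).toFinset) fun m hm => ?_).trans
      ((List.toFinset_card_le _).trans classes_spec.2.2.2.2.2.2.2.le)
    obtain ⟨-, σ, hσ, h1, rfl⟩ := H.mem_orb.mp hm
    exact List.mem_toFinset.mpr (H.stab1 hσ h1 hp)

theorem orb_large {c y : ℕ} (hc : c < 5) (h2 : 2 ≤ c) (hy : y ∈ mem c) : 23 ≤ (orb Mv y).card := by
  have hsub : ((mem c).take 23).toFinset ⊆ orb Mv y := by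
    intro m hm
    have hm' := List.mem_of_mem_take (List.mem_toFinset.mp hm)
    obtain ⟨σ, hσ, h1, e⟩ := H.cls c hc m hm'
    obtain ⟨ρ, hρ, r1, e'⟩ := H.cls c hc y hy
    obtain ⟨τ, hτ, hinv⟩ := H.inv hρ
    refine H.mem_orb.mpr ⟨(mem_range' hc hm').2, σ ∘ τ, H.comp hσ hτ, ?_, ?_⟩
    · show σ (τ 1) = 1
      have h := (hinv 1 (by norm_num)).1
      rw [r1] at h
      rw [h, h1]
    · show σ (τ y) = m
      rw [← e', (hinv _ (mem_range' hc (head_mem hc)).2).1, e]
  refine le_trans ?_ (Finset.card_le_card hsub)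
  obtain ⟨n2, n3, n4, l2, l3, l4, -⟩ := large_ok
  interval_cases c
  · rw [List.toFinset_card_of_nodup n2, List.length_take]; omega
  · rw [List.toFinset_card_of_nodup n3, List.length_take]; omega
  · rw [List.toFinset_card_of_nodup n4, List.length_take]; omega

/-- The mask mapped to the base point by a map taking it to `p` lies in the first two classes, if every mask
does or if the classes beyond are not closed under adding the base point. -/
theorem near (hs : O = (union 7).toFinset ∨ O = (union 31).toFinset) {p : ℕ} (hp : p ∈ mem 0 ∨ p ∈ mem 1)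
    {σ : ℕ → ℕ} (hσ : Mv σ) (h1 : σ 1 = p) {y : ℕ} (hy : y < 2048) (e : σ y = 1) : y ∈ mem 0 ∨ y ∈ mem 1 := by
  classical
  have hpO : p ∈ O := h1 ▸ H.maps hσ 1 H.base
  have hp1 : Nat.xor p 1 ∈ O := by
    have hpe : Nat.xor p 1 ∈ mem 0 ∨ Nat.xor p 1 ∈ mem 1 := hp.symm.imp
      (fun h => classes_spec.2.2.1 p (mem_range' (by norm_num) h).2 h) fun h => (mem0_one h).1
    rcases hs with hs | hs <;> rw [hs, List.mem_toFinset, mem_union] <;> right <;>
      rcases hpe with h | h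
    exacts [⟨0, by norm_num, by decide +kernel, h⟩, ⟨1, by norm_num, by decide +kernel, h⟩,
      ⟨0, by norm_num, by decide +kernel, h⟩, ⟨1, by norm_num, by decide +kernel, h⟩]
  obtain ⟨τ, hτ, hinv⟩ := H.inv hσ
  have ey : τ 1 = y := by rw [← e, (hinv y hy).1]
  have hyO : y ∈ O := ey ▸ H.maps hτ 1 H.base
  have hy1 : Nat.xor y 1 ∈ O := by
    have h := H.maps hτ _ hp1
    rwa [H.add hτ (H.mem_lt hpO) (by norm_num), ey, ← h1, (hinv 1 (by norm_num)).1, xor_comm'] at h
  have hne : y ≠ 1 := fun h => by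
    rw [h, h1] at e
    rcases hp with hp | hp <;> have := (mem_range' (by norm_num) hp).1 <;> omega
  obtain ⟨c, hc, hcy⟩ := classes_spec.1 y (by have := (H.sub y hyO).2; omega) hy
  by_cases hc2 : c < 2
  · interval_cases c
    exacts [Or.inl hcy, Or.inr hcy]
  exfalso
  rcases hs with hs | hs
  · have hc' : c = 2 := by
      rw [hs, List.mem_toFinset, mem_union] at hyO
      rcases hyO with h | ⟨d, hd, hbit, hdy⟩
      · exact absurd h hne
      have hd3 : d < 3 := by
        by_contra hd3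
        interval_cases d
        all_goals exact absurd hbit (by decide +kernel)
      have := class_unique hc hd hcy hdy
      omega
    subst hc'
    have h3 := classes_spec.2.2.2.1 y hy hcy
    rw [hs, List.mem_toFinset, mem_union] at hy1
    rcases hy1 with h | ⟨d, hd, hbit, hdy⟩
    · have := (mem_range' (show 3 < 5 by norm_num) h3).1; omega
    · have := class_unique (show 3 < 5 by norm_num) hd h3 hdy
      subst this
      exact absurd hbit (by decide +kernel)
  · -- all masks: compare the numbers of arcs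
    have hyp : p < 2048 := H.mem_lt hpO
    have h22 := H.orb_le hp
    have h23 := H.orb_large hc (by omega) hcy
    have hsw : (arcs Mv O y).image Prod.swap ⊆ arcs Mv O p := by
      intro e he
      obtain ⟨⟨u, v⟩, huv, rfl⟩ := Finset.mem_image.mp he
      obtain ⟨⟨hu, hv⟩, ρ, hρ, r1, r2⟩ := H.mem_arcs.mp huv
      refine H.mem_arcs.mpr ⟨⟨?_, H.mem_lt hu⟩, ρ ∘ τ, H.comp hρ hτ, ?_, ?_⟩
      · show v ∈ O
        have hv0 : v ≠ 0 := fun h0 => by
          obtain ⟨π, hπ, hπinv⟩ := H.inv hρ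
          have h := (hπinv y hy).1
          rw [show ρ y = 0 from r2.trans h0] at h
          have z : π 0 = 0 := by
            have h := H.add hπ (show 0 < 2048 by norm_num) (show 0 < 2048 by norm_num)
            simpa using h
          exact (H.sub y hyO).2 (h ▸ z)
        rw [hs, List.mem_toFinset]
        exact union_top_mem (Nat.pos_of_ne_zero hv0) hv
      · show ρ (τ 1) = v
        rw [ey]; exact r2
      · show ρ (τ p) = u
        rw [← h1, (hinv 1 (by norm_num)).1]; exact r1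
    have hle := Finset.card_le_card hsw
    rw [Finset.card_image_of_injective _ Prod.swap_injective, H.card_arcs hy, H.card_arcs hyp] at hle
    have hO : 0 < O.card := Finset.card_pos.mpr ⟨1, H.base⟩
    have := Nat.le_of_mul_le_mul_left hle hO
    omega

end Homog

end CfsgLib.CosetEnum.M23Thompson
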