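/-
The elementary abelian group of a base inside the centraliser of a transposition of Fi23: which of its members
are transpositions, elements normalising it, and the conjugacy of the elementary abelian subgroups of its order.
-/
import Cfsg.Agent.Lib.CosetEnum.Fi23Syl.Main
import Cfsg.Agent.Lib.CosetEnum.Fi23Class.Double
import Cfsg.Agent.Lib.CosetEnum.M23Thompson.Checks

set_option autoImplicit false
set_option maxRecDepth 1000000

namespace CfsgLib.CosetEnum.M23Thompson

open Cfsg CfsgLib.CosetEnum CfsgLib.CosetEnum.Fi23Syl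

/-- The elements normalising the group of the base and commuting with the base point. -/
noncomputable def stab0 : Subgroup presFi23.Grp :=
  Subgroup.normalizer (eSub : Set presFi23.Grp) ⊓ Subgroup.centralizer ({Fi23Aut.tz} : Set presFi23.Grp)

/-- The mask names a member of the class of the base point. -/
def IsTr (m : ℕ) : Prop := eEl m ∈ conjugatesOf Fi23Aut.tz

theorem eEl_one : eEl 1 = Fi23Aut.tz := by
  have h := bEl_eq (show 0 < 23 by norm_num)
  rw [show vecs.getD 0 0 = 1 from rfl] at h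
  rw [← h, bEl, show bw 0 = [] from rfl, tr]
  simp

theorem isTr_vec {j : ℕ} (hj : j < 23) : IsTr (vecs.getD j 0) := by
  refine isConj_iff.mpr ⟨((bw j).map presFi23.σ).prod, ?_⟩
  rw [← bEl_eq hj]
  rfl

theorem comm_tz (m : ℕ) : Commute (eEl m) Fi23Aut.tz := by
  rw [← eEl_one]; exact eEl_comm m 1

theorem eSub_le : eSub ≤ Subgroup.centralizer ({Fi23Aut.tz} : Set presFi23.Grp) := by
  rintro _ ⟨m, -, rfl⟩
  exact Subgroup.mem_centralizer_singleton_iff.mpr (comm_tz m)

/-! ### The normalising elements -/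

/-- The element with the given number. -/
noncomputable def el (k : ℕ) : presFi23.Grp := trs (els.getD k [])

theorem el_spec {k : ℕ} (hk : k < 2) : Good (els.getD k []) ∧
    (∀ j < 23, (perms.getD k []).getD j 23 < 23 ∧
      act (els.getD k []) (bpts.getD j 0) = bpts.getD ((perms.getD k []).getD j 23) 0) ∧
    (∀ i < 11, (cols.getD k []).getD i 0 = vecs.getD ((perms.getD k []).getD (bidx.getD i 0) 23) 0) ∧
    (perms.getD k []).getD 0 23 = 0 := by
  have h := allN_spec el_ok k hk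
  simp only [force_eq, okEl, Bool.and_eq_true, List.all_eq_true, blt_iff] at h
  obtain ⟨⟨⟨h1, h2⟩, h3⟩, h4⟩ := h
  refine ⟨h1, fun j hj => ?_, fun i hi => ?_, Nat.eq_of_beq_eq_true h4⟩
  · have := allN_spec h2 j hj
    simp only [Bool.and_eq_true, blt_iff] at this
    exact ⟨this.1, Nat.eq_of_beq_eq_true this.2⟩
  · exact Nat.eq_of_beq_eq_true (allN_spec h3 i hi)

theorem el_bEl {k : ℕ} (hk : k < 2) {j : ℕ} (hj : j < 23) :
    el k * bEl j * (el k)⁻¹ = bEl ((perms.getD k []).getD j 23) := by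
  obtain ⟨hg, hp, -, -⟩ := el_spec hk
  obtain ⟨hq, hact⟩ := hp j hj
  have h' := Fi31671.cert.isPt_conj Fi31671.hlt (bEl_pt hj) (el k)
  rw [show Fi31671.cert.hom Fi31671.hlt (el k) (bPt j hj) = bPt _ hq from
    Fin.ext ((act_spec _ hg _).trans hact)] at h'
  exact Fi31671.cert.isPt_unique Fi31671.hlt Fi23Aut.stabIsCent h' (bEl_pt hq)

theorem el_eEl {k : ℕ} (hk : k < 2) (m : ℕ) :
    el k * eEl m * (el k)⁻¹ = eEl (img (cols.getD k []) 11 m) := by
  suffices key : ∀ n ≤ 11, el k * eP n m * (el k)⁻¹ = eEl (img (cols.getD k []) n m) from key 11 le_rfl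
  intro n
  induction n with
  | zero => intro _; simp [eP, img, eEl_zero]
  | succ n ih =>
    intro hn
    have hb := base_len.2.2.2 n (by omega)
    show el k * (eP n m * sel n _) * (el k)⁻¹ = eEl (Nat.xor (img _ n m) _)
    rw [show el k * (eP n m * sel n (bitB m n)) * (el k)⁻¹ =
      (el k * eP n m * (el k)⁻¹) * (el k * sel n (bitB m n) * (el k)⁻¹) by group, ih (by omega), ← eEl_mul]
    congr 1
    rw [show bit m n = bitB m n from rfl]
    cases bitB m n
    · simp [sel, eEl_zero]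
    · show el k * bEl _ * (el k)⁻¹ = eEl _
      rw [el_bEl hk hb, bEl_eq ((el_spec hk).2.1 _ hb).1, ← (el_spec hk).2.2.1 n (by omega)]

theorem img_lt {k : ℕ} (hk : k < 2) (m : ℕ) : ∀ n ≤ 11, img (cols.getD k []) n m < 2048 := by
  intro n
  induction n with
  | zero => exact fun _ => Nat.two_pow_pos 11
  | succ n ih =>
    intro hn
    refine xor_lt (ih (by omega)) ?_
    cases bit m n
    · exact Nat.two_pow_pos 11
    · show (cols.getD k []).getD n 0 < 2048
      rw [(el_spec hk).2.2.1 n (by omega)]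
      exact (base_spec ((el_spec hk).2.1 _ (base_len.2.2.2 n (by omega))).1).2.2.2.2.1

theorem mem_normalizer_of [Finite presFi23.Grp] {g : presFi23.Grp}
    (h : ∀ m < 2048, g * eEl m * g⁻¹ ∈ eSub) : g ∈ Subgroup.normalizer (eSub : Set presFi23.Grp) := by
  have hle : eSub.map (MulAut.conj g).toMonoidHom ≤ eSub := by
    rintro _ ⟨_, ⟨m, hm, rfl⟩, rfl⟩
    exact h m hm
  have heq := Subgroup.eq_of_le_of_card_ge hle
    (le_of_eq (Subgroup.card_map_of_injective (MulAut.conj g).injective).symm)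
  refine Subgroup.mem_normalizer_iff.mpr fun x => ⟨fun hx => hle ⟨x, hx, rfl⟩, fun hx => ?_⟩
  rw [← heq] at hx
  obtain ⟨y, hy, e⟩ := hx
  exact (MulAut.conj g).injective e ▸ hy

theorem el_mem {k : ℕ} (hk : k < 2) : el k ∈ stab0 := by
  haveI : Finite presFi23.Grp := Cfsg.Agent.S1697.upper.1
  refine ⟨mem_normalizer_of fun m _ => ⟨_, img_lt hk m 11 le_rfl, (el_eEl hk m).symm⟩, ?_⟩
  have h := el_bEl hk (show 0 < 23 by norm_num)
  rw [(el_spec hk).2.2.2, bEl_eq (show 0 < 23 by norm_num), show vecs.getD 0 0 = 1 from rfl, eEl_one] at h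
  exact Subgroup.mem_centralizer_singleton_iff.mpr (mul_inv_eq_iff_eq_mul.mp h)

/-! ### The classes of masks -/

theorem step_spec {c : ℕ} (hc : c < 5) {i : ℕ} (hi : i < (trees.getD c []).length) :
    ((trees.getD c []).getD i (0, 0, 0)).1 < 2048 ∧ 2 ≤ ((trees.getD c []).getD i (0, 0, 0)).1 ∧
      (i = 0 ∨ ((trees.getD c []).getD i (0, 0, 0)).2.1 < i ∧ ((trees.getD c []).getD i (0, 0, 0)).2.2 < 2 ∧
        img (cols.getD ((trees.getD c []).getD i (0, 0, 0)).2.2 []) 11
          ((trees.getD c []).getD ((trees.getD c []).getD i (0, 0, 0)).2.1 (0, 0, 0)).1 =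
            ((trees.getD c []).getD i (0, 0, 0)).1) := by
  have h := allN_spec steps_ok c hc
  rw [force_eq] at h
  have h2 := allN_spec h i hi
  simp only [force_eq, okStep, Bool.and_eq_true, Bool.or_eq_true, blt_iff] at h2
  obtain ⟨⟨h1, h1'⟩, h3⟩ := h2
  refine ⟨h1, Nat.le_of_ble_eq_true h1', h3.imp Nat.eq_of_beq_eq_true fun h => ?_⟩
  exact ⟨h.1.1, h.1.2, Nat.eq_of_beq_eq_true h.2⟩

theorem mem_idx {c m : ℕ} (hm : m ∈ mem c) :
    ∃ i < (trees.getD c []).length, ((trees.getD c []).getD i (0, 0, 0)).1 = m := by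
  obtain ⟨e, he, rfl⟩ := List.mem_map.mp hm
  obtain ⟨i, hi, hie⟩ := List.getElem_of_mem he
  exact ⟨i, hi, by rw [List.getD_eq_getElem _ _ hi, hie]⟩

theorem mem_lt {c m : ℕ} (hc : c < 5) (hm : m ∈ mem c) : 2 ≤ m ∧ m < 2048 := by
  obtain ⟨i, hi, rfl⟩ := mem_idx hm
  exact ⟨(step_spec hc hi).2.1, (step_spec hc hi).1⟩

theorem rep_eq {c : ℕ} : (mem c).getD 0 0 = ((trees.getD c []).getD 0 (0, 0, 0)).1 := by
  unfold mem
  generalize trees.getD c [] = l
  cases l <;> simp

/-- A class is an orbit of the elements fixing the base point. -/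
theorem mem_conj {c m : ℕ} (hc : c < 5) (hm : m ∈ mem c) :
    ∃ h ∈ stab0, h * eEl ((mem c).getD 0 0) * h⁻¹ = eEl m := by
  obtain ⟨i, hi, rfl⟩ := mem_idx hm
  rw [rep_eq]
  clear hm
  induction i using Nat.strong_induction_on with
  | _ i ih =>
    rcases (step_spec hc hi).2.2 with h0 | ⟨hk, hg, he⟩
    · exact ⟨1, one_mem _, by rw [h0, one_mul, inv_one, mul_one]⟩
    obtain ⟨h, hh, e⟩ := ih _ hk (lt_trans hk hi)
    refine ⟨el _ * h, mul_mem (el_mem hg) hh, ?_⟩
    rw [← he, ← el_eEl hg, ← e]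
    group

/-- The witnesses: no transposition among their masks. -/
theorem not_isTr_wit {w : ℕ × List ℕ × ℕ × ℕ × ℕ} (hw : w ∈ wits) : ¬ IsTr w.1 := by
  intro hx
  have h := List.all_eq_true.mp wit_ok w hw
  simp only [okWit, Bool.and_eq_true, Bool.not_eq_true', List.all_eq_true, blt_iff] at h
  obtain ⟨⟨⟨⟨⟨⟨⟨-, hg⟩, -⟩, hd2⟩, hd3⟩, -⟩, h2⟩, h3⟩ := h
  obtain ⟨ge, ee⟩ := trs_ebits w.1 11 le_rfl
  have hgood : Good (ebitsN 11 w.1 ++ [w.2.1]) := fun v hv =>
    (List.mem_append.mp hv).elim (ge v) fun h => by rw [List.mem_singleton.mp h]; exact hg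
  have hl : trs (ebitsN 11 w.1 ++ [w.2.1]) = eEl w.1 * tr w.2.1 := by
    rw [trs_append, ee]; simp [trs, eEl]
  have hw' : tr w.2.1 ∈ conjugatesOf Fi23Aut.tz := isConj_iff.mpr ⟨(w.2.1.map presFi23.σ).prod, rfl⟩
  have g2 : Good ((ebitsN 11 w.1 ++ [w.2.1]) ++ (ebitsN 11 w.1 ++ [w.2.1])) := fun v hv =>
    (List.mem_append.mp hv).elim (hgood v) (hgood v)
  have g3 : Good ((ebitsN 11 w.1 ++ [w.2.1]) ++ ((ebitsN 11 w.1 ++ [w.2.1]) ++ (ebitsN 11 w.1 ++ [w.2.1]))) :=
    fun v hv => (List.mem_append.mp hv).elim (hgood v) (g2 v)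
  have hD : IsThreeTranspositionSet (conjugatesOf Fi23Aut.tz) := Fi23Class.facts.2.1.1
  rcases hD.2 _ hx _ hw' with e | e
  · have e2 : trs ((ebitsN 11 w.1 ++ [w.2.1]) ++ (ebitsN 11 w.1 ++ [w.2.1])) = 1 := by
      rw [trs_append (ebitsN 11 w.1 ++ [w.2.1]) (ebitsN 11 w.1 ++ [w.2.1]), hl, ← pow_two, e]
    have := act_spec _ g2 ⟨w.2.2.2.1, hd2⟩
    rw [e2, map_one, Equiv.Perm.one_apply] at this
    exact Nat.ne_of_beq_eq_false h2 this.symm
  · have e3 : trs ((ebitsN 11 w.1 ++ [w.2.1]) ++ ((ebitsN 11 w.1 ++ [w.2.1]) ++ (ebitsN 11 w.1 ++ [w.2.1]))) = 1 := by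
      rw [trs_append (ebitsN 11 w.1 ++ [w.2.1]) ((ebitsN 11 w.1 ++ [w.2.1]) ++ (ebitsN 11 w.1 ++ [w.2.1])),
        trs_append (ebitsN 11 w.1 ++ [w.2.1]) (ebitsN 11 w.1 ++ [w.2.1]), hl, ← pow_two, ← pow_succ', e]
    have := act_spec _ g3 ⟨w.2.2.2.2, hd3⟩
    rw [e3, map_one, Equiv.Perm.one_apply] at this
    exact Nat.ne_of_beq_eq_false h3 this.symm

theorem not_isTr {c m : ℕ} (hc : c < 5) (h0 : c ≠ 0) (hm : m ∈ mem c) : ¬ IsTr m := by
  obtain ⟨h, -, e⟩ := mem_conj hc hm
  intro ht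
  have hr : IsTr ((mem c).getD 0 0) := by
    refine (ht : IsConj _ _).trans (isConj_iff.mpr ⟨h⁻¹, ?_⟩)
    rw [← e]; group
  have hmap := reps_ok
  have : (mem c).getD 0 0 ∈ wits.map Prod.fst := by
    rw [hmap]
    interval_cases c <;> simp at *
  obtain ⟨w, hw, e'⟩ := List.mem_map.mp this
  exact not_isTr_wit hw (e' ▸ hr)

/-! ### Conjugacy of the large elementary abelian subgroups -/

theorem elementary_map {G : Type*} [Group G] {K : Type*} [Group K] (f : G →* K) {A : Subgroup G}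
    (hA : IsElementaryAbelian 2 A) : IsElementaryAbelian 2 (A.map f) := by
  refine ⟨⟨⟨?_⟩⟩, ?_⟩
  · rintro ⟨_, a, ha, rfl⟩ ⟨_, b, hb, rfl⟩
    apply Subtype.ext
    show f a * f b = f b * f a
    rw [← map_mul, ← map_mul, show a * b = b * a from congrArg Subtype.val (hA.1.is_comm.comm ⟨a, ha⟩ ⟨b, hb⟩)]
  · rintro _ ⟨a, ha, rfl⟩
    rw [← map_pow, hA.2 a ha, map_one]

/-- Two elementary abelian subgroups of order at least 2^11 in one 2-subgroup are equal, of order 2^11. -/
theorem large_unique [Finite presFi23.Grp] {Q : Subgroup presFi23.Grp} (hQ : IsPGroup 2 Q)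
    {B : Subgroup presFi23.Grp} (hB : B ≤ Q) (hBe : IsElementaryAbelian 2 B) (hBc : 2048 ≤ Nat.card B)
    {E : Subgroup presFi23.Grp} (hE : E ≤ Q) (hEe : IsElementaryAbelian 2 E) (hEc : 2048 ≤ Nat.card E) :
    B = E ∧ Nat.card B = 2048 := by
  haveI : Fact (Nat.Prime 2) := ⟨Nat.prime_two⟩
  obtain ⟨T, hT⟩ := hQ.exists_le_sylow
  let T₀ : Sylow 2 presFi23.Grp := Sylow.ofCard (tower 0) (by
    rw [Fi23Aut.card_grp, show (4089470473293004800 : ℕ) = 2 ^ 18 * 15600091832325 by norm_num,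
      Nat.factorization_mul (by positivity) (by norm_num), Nat.Prime.factorization_pow Nat.prime_two,
      Finsupp.add_apply, Finsupp.single_eq_same, Nat.factorization_eq_zero_of_not_dvd (by norm_num),
      card_tower.1]
    norm_num)
  obtain ⟨g, hgT⟩ := MulAction.exists_smul_eq presFi23.Grp T₀ T
  have back : ∀ A : Subgroup presFi23.Grp, A ≤ Q → IsElementaryAbelian 2 A → 2048 ≤ Nat.card A →
      A = eSub.map (MulAut.conj g).toMonoidHom := by
    intro A hAQ hA hAc
    have hle : A.map (MulAut.conj g⁻¹).toMonoidHom ≤ tower 0 := by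
      rintro _ ⟨a, ha, rfl⟩
      have := hT (hAQ ha)
      rw [← hgT] at this
      change a ∈ (↑(g • T₀) : Subgroup presFi23.Grp) at this
      rw [Sylow.coe_subgroup_smul, Subgroup.mem_pointwise_smul_iff_inv_smul_mem] at this
      simpa [T₀, mul_assoc] using this
    have hc : Nat.card (A.map (MulAut.conj g⁻¹).toMonoidHom) = Nat.card A :=
      Subgroup.card_map_of_injective (MulAut.conj g⁻¹).injective
    rcases bound _ hle (elementary_map _ hA) with h | h
    · refine Subgroup.eq_of_le_of_card_ge (fun a ha => ⟨g⁻¹ * a * g, h ⟨a, ha, by simp⟩, ?_⟩) ?_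
      · show g * (g⁻¹ * a * g) * g⁻¹ = a
        group
      · rw [Subgroup.card_map_of_injective (MulAut.conj g).injective, card_eSub]; exact hAc
    · omega
  refine ⟨(back B hB hBe hBc).trans (back E hE hEe hEc).symm, ?_⟩
  rw [back B hB hBe hBc, Subgroup.card_map_of_injective (MulAut.conj g).injective, card_eSub]

/-- An elementary abelian subgroup of order at least 2^11 of the centraliser of the base point is conjugate there
to the group of the base. -/
theorem conj_eSub [Finite presFi23.Grp] {B : Subgroup presFi23.Grp}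
    (hB : B ≤ Subgroup.centralizer ({Fi23Aut.tz} : Set presFi23.Grp)) (hBe : IsElementaryAbelian 2 B)
    (hBc : 2048 ≤ Nat.card B) :
    ∃ h ∈ Subgroup.centralizer ({Fi23Aut.tz} : Set presFi23.Grp), B.map (MulAut.conj h).toMonoidHom = eSub := by
  haveI : Fact (Nat.Prime 2) := ⟨Nat.prime_two⟩
  set H := Subgroup.centralizer ({Fi23Aut.tz} : Set presFi23.Grp)
  have two : ∀ A : Subgroup presFi23.Grp, IsElementaryAbelian 2 A → IsPGroup 2 (A.subgroupOf H) := fun A hA a =>
    ⟨1, Subtype.ext (Subtype.ext (by simpa using hA.2 _ a.2))⟩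
  obtain ⟨P, hP⟩ := (two B hBe).exists_le_sylow
  obtain ⟨R, hR⟩ := (two eSub eSub_elementary).exists_le_sylow
  obtain ⟨h, hh⟩ := MulAction.exists_smul_eq (↥H) P R
  refine ⟨h, h.2, ?_⟩
  set Q := (R : Subgroup H).map H.subtype
  have hQ : IsPGroup 2 Q := R.2.map _
  have hBQ : B.map (MulAut.conj (h : presFi23.Grp)).toMonoidHom ≤ Q := by
    rintro _ ⟨b, hb, rfl⟩
    have hm : h * ⟨b, hB hb⟩ * h⁻¹ ∈ (R : Subgroup H) := by
      rw [← hh]
      change _ ∈ (↑(h • P) : Subgroup H)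
      rw [Sylow.coe_subgroup_smul, Subgroup.mem_pointwise_smul_iff_inv_smul_mem]
      have : (⟨b, hB hb⟩ : H) ∈ (P : Subgroup H) := hP (Subgroup.mem_subgroupOf.mpr hb)
      simpa [mul_assoc] using this
    exact ⟨_, hm, rfl⟩
  have hEQ : eSub ≤ Q := fun e he => ⟨⟨e, eSub_le he⟩, hR (Subgroup.mem_subgroupOf.mpr he), rfl⟩
  exact (large_unique hQ hBQ (elementary_map _ hBe)
    (by rwa [Subgroup.card_map_of_injective (MulAut.conj (h : presFi23.Grp)).injective]) hEQ eSub_elementary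
    (le_of_eq card_eSub.symm)).1

end CfsgLib.CosetEnum.M23Thompson
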