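/-
A homogeneous set of masks has 23 members.
-/
import Cfsg.Agent.Lib.CosetEnum.M23Thompson.Arcs

set_option autoImplicit false
set_option maxRecDepth 1000000

namespace CfsgLib.CosetEnum.M23Thompson.Homog

open CfsgLib.CosetEnum

variable {Mv : (ℕ → ℕ) → Prop} {O : Finset ℕ} (H : Homog Mv O)
include H

/-- Every member of the first two classes is joined to the base point or to its complement. -/
theorem key (hs : O = (union 7).toFinset ∨ O = (union 31).toFinset) {p : ℕ} (hp : p ∈ mem 0 ∨ p ∈ mem 1) :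
    Arc Mv p 1 ∨ Arc Mv p (Nat.xor p 1) := by
  have hpO : p ∈ O := by
    rcases hs with hs | hs <;> rw [hs, List.mem_toFinset, mem_union] <;> right <;> rcases hp with h | h
    exacts [⟨0, by norm_num, by decide +kernel, h⟩, ⟨1, by norm_num, by decide +kernel, h⟩,
      ⟨0, by norm_num, by decide +kernel, h⟩, ⟨1, by norm_num, by decide +kernel, h⟩]
  obtain ⟨σ, hσ, h1⟩ := H.trans p hpO
  obtain ⟨τ, hτ, hinv⟩ := H.inv hσ
  have hy : τ 1 < 2048 := H.lt hτ (by norm_num)
  have e : σ (τ 1) = 1 := (hinv 1 (by norm_num)).2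
  rcases H.near hs hp hσ h1 hy e with h | h
  · left
    have := H.arc_map (H.arc_of_mem h) hσ
    rwa [h1, e] at this
  · right
    have := H.arc_map (H.arc_of_mem (classes_spec.2.2.1 _ hy h)) hσ
    rwa [H.add hσ hy (by norm_num), h1, e, xor_comm' 1 p] at this

/-- A reversible arc makes every arc reversible. -/
theorem arc_symm (h : Arc Mv a0 1) {p q : ℕ} (hpq : Arc Mv p q) : Arc Mv q p := by
  obtain ⟨σ, hσ, rfl, rfl⟩ := hpq
  exact H.arc_map h hσ

theorem no_back (hs : O = (union 7).toFinset ∨ O = (union 31).toFinset) : ¬ Arc Mv a0 1 := by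
  intro h
  have ha := a0_lt
  rcases H.key hs (Or.inr (mem0_one a0_mem).1) with k | k
  · refine H.excl (H.arc_symm h h) (q := a0) ?_
    rw [xor_comm' 1 a0]
    exact H.arc_symm h k
  · rw [xor_right_cancel] at k
    exact H.excl h (H.arc_symm h k)

/-- Arcs run round in triangles. -/
theorem arc_next (hs : O = (union 7).toFinset ∨ O = (union 31).toFinset) {p q : ℕ} (h : Arc Mv p q) :
    Arc Mv q (Nat.xor p q) := by
  have h0 : Arc Mv a0 (Nat.xor a0 1) := (H.key hs (Or.inl a0_mem)).resolve_left (H.no_back hs)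
  obtain ⟨σ, hσ, rfl, rfl⟩ := h
  have := H.arc_map h0 hσ
  rwa [H.add hσ a0_lt (by norm_num), xor_comm' (σ a0) (σ 1)] at this

theorem no_sym (hs : O = (union 7).toFinset ∨ O = (union 31).toFinset) {p q : ℕ} (h : Arc Mv p q)
    (h' : Arc Mv q p) : False := by
  have h3 := H.arc_next hs h
  exact H.excl h' (by rwa [xor_comm' q p])

theorem not_seven (hs : O = (union 7).toFinset) : False := by
  have hs' : O = (union 7).toFinset ∨ O = (union 31).toFinset := Or.inl hs
  set a := Fi23Syl.vecs.getD 1 0 with hadef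
  set b := Fi23Syl.vecs.getD 2 0 with hbdef
  have ha : a ∈ mem 0 := classes_spec.2.2.2.2.1 1 (by norm_num) (by norm_num)
  have hb : b ∈ mem 0 := classes_spec.2.2.2.2.1 2 (by norm_num) (by norm_num)
  have halt := (mem_range' (by norm_num) ha).2
  have hblt := (mem_range' (by norm_num) hb).2
  have hab : Nat.xor a b ∈ mem 2 := pair_ok.2
  have habO : Nat.xor a b ∈ O := by
    rw [hs, List.mem_toFinset, mem_union]; exact Or.inr ⟨2, by norm_num, by decide +kernel, hab⟩
  have hbO : b ∈ O := by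
    rw [hs, List.mem_toFinset, mem_union]; exact Or.inr ⟨0, by norm_num, by decide +kernel, hb⟩
  have hne : a ≠ b := by decide +kernel
  -- a map taking the base point and the first representative to the second and its complement
  obtain ⟨σ, hσ, h1, -⟩ := H.arc_next hs' (H.arc_of_mem ha)
  obtain ⟨τ, hτ, hinv⟩ := H.inv hσ
  set y := τ b with hy'
  have hy : y < 2048 := H.lt hτ hblt
  have e : σ y = b := (hinv b hblt).2
  have hyO : y ∈ O := H.maps hτ b hbO
  have hy1 : Nat.xor 1 y ∈ O := by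
    have h := H.maps hτ _ habO
    rwa [H.add hτ halt hblt, ← h1, (hinv 1 (by norm_num)).1] at h
  have yne : y ≠ 1 := fun h => hne (by rw [← h1, ← e, h])
  have hc : y ∈ mem 0 ∨ y ∈ mem 1 := by
    rw [hs, List.mem_toFinset, mem_union] at hyO hy1
    rcases hyO with h | ⟨c, hc, hbit, hcy⟩
    · exact absurd h yne
    have hc3 : c < 3 := by
      by_contra h3
      interval_cases c
      all_goals exact absurd hbit (by decide +kernel)
    interval_cases c
    · exact Or.inl hcy
    · exact Or.inr hcy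
    · exfalso
      have h3 := classes_spec.2.2.2.1 y hy hcy
      rw [xor_comm' 1 y] at hy1
      rcases hy1 with h | ⟨d, hd, hbit', hdy⟩
      · have := (mem_range' (show 3 < 5 by norm_num) h3).1; omega
      · have := class_unique (show 3 < 5 by norm_num) hd h3 hdy
        subst this
        exact absurd hbit' (by decide +kernel)
  obtain ⟨ω, hω, w1, wab, wba⟩ := H.swap
  have toSwap : ∀ {p q : ℕ}, Arc Mv p q → Arc Mv (ω p) (ω q) := fun h => H.arc_map h hω
  rcases hc with hc | hc
  · -- the two representatives are joined, and by the interchange in both directions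
    have hT := H.arc_map (H.arc_of_mem hc) hσ
    rw [h1, e] at hT
    have hT' := toSwap hT
    rw [wab, wba] at hT'
    exact H.no_sym hs' hT hT'
  · have hT := H.arc_map (H.arc_of_mem (classes_spec.2.2.1 y hy hc)) hσ
    rw [H.add hσ hy (by norm_num), h1, e] at hT
    rw [xor_comm' b a] at hT
    have hT' := toSwap hT
    rw [wab, H.add hω halt hblt, wab, wba, xor_comm' b a] at hT'
    have h3 := H.arc_next hs' hT
    rw [xor_left_cancel] at h3
    exact H.no_sym hs' h3 hT'

theorem not_all (hs : O = (union 31).toFinset) : False := by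
  classical
  haveI : Fact (Nat.Prime 3) := ⟨Nat.prime_three⟩
  have hs' : O = (union 7).toFinset ∨ O = (union 31).toFinset := Or.inr hs
  have horb : orb Mv a0 = (mem 0).toFinset := by
    ext m
    rw [H.mem_orb, List.mem_toFinset]
    exact ⟨fun ⟨_, σ, hσ, h1, e⟩ => e ▸ H.stab hσ h1 a0 a0_mem,
      fun hm => ⟨(mem_range' (by norm_num) hm).2, H.cls 0 (by norm_num) m hm⟩⟩
  have hcard : (arcs Mv O a0).card = 45034 := by
    rw [H.card_arcs a0_lt, horb, hs, List.toFinset_card_of_nodup (nodup_union (by norm_num)), union_top,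
      List.toFinset_card_of_nodup large_ok.2.2.2.2.2.2.1, classes_spec.2.2.2.2.2.2.1]
  have hne0 : ∀ m ∈ O, m ≠ 0 := fun m hm => (H.sub m hm).2
  have nz : ∀ {σ : ℕ → ℕ}, Mv σ → ∀ {m}, m < 2048 → m ≠ 0 → σ m ∈ O := fun hσ m hm h0 =>
    H.maps hσ m (by rw [hs, List.mem_toFinset]; exact union_top_mem (Nat.pos_of_ne_zero h0) hm)
  have step : ∀ e : ℕ × ℕ, e ∈ arcs Mv O a0 → (e.2, Nat.xor e.1 e.2) ∈ arcs Mv O a0 := by
    intro e he
    obtain ⟨⟨hp, hq⟩, σ, hσ, h1, h2⟩ := H.mem_arcs.mp he
    refine H.mem_arcs.mpr ⟨⟨h2 ▸ nz hσ a0_lt (by have := (mem_range' (by norm_num) a0_mem).1; omega),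
      Nat.xor_lt_two_pow (n := 11) (H.mem_lt hp) hq⟩, ?_⟩
    obtain ⟨ρ, hρ, r1, r2⟩ := H.arc_next hs' (⟨σ, hσ, h1, h2⟩ : Arc Mv e.1 e.2)
    exact ⟨ρ, hρ, r1, r2⟩
  let f : arcs Mv O a0 → arcs Mv O a0 := fun e => ⟨_, step e.1 e.2⟩
  have f3 : ∀ e, f (f (f e)) = e := by
    rintro ⟨⟨p, q⟩, he⟩
    apply Subtype.ext
    show (Nat.xor q (Nat.xor p q), Nat.xor (Nat.xor p q) (Nat.xor q (Nat.xor p q))) = (p, q)
    have e1 : Nat.xor q (Nat.xor p q) = p := by rw [xor_comm' p q, xor_left_cancel]
    rw [e1, xor_comm' (Nat.xor p q) p, xor_left_cancel]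
  let σ : Equiv.Perm (arcs Mv O a0) := ⟨f, fun e => f (f e), f3, fun e => f3 e⟩
  have hσ3 : σ ^ 3 ^ 1 = 1 := Equiv.ext fun e => by
    show (σ ^ 3) e = e
    simp only [pow_succ, pow_zero, one_mul, Equiv.Perm.mul_apply]
    exact f3 e
  obtain ⟨⟨⟨p, q⟩, he⟩, hfix⟩ := Equiv.Perm.exists_fixed_point_of_prime (p := 3) (n := 1)
    (by rw [Fintype.card_coe, hcard]; decide) hσ3
  have h := congrArg Subtype.val hfix
  have h1 : q = p := (Prod.mk.inj h).1
  have h2 : Nat.xor p q = q := (Prod.mk.inj h).2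
  rw [h1] at h2
  have : Nat.xor p p = 0 := Nat.xor_self p
  exact hne0 p (H.mem_arcs.mp he).1.1 (h2.symm.trans this)

/-- **The set has 23 members.** -/
theorem card_eq : O.card = 23 := by
  classical
  obtain ⟨s, hs, hO⟩ := H.exists_union
  rcases sub_spec hs with h | ⟨c, hc, hbit, hne⟩
  · rcases h with rfl | rfl | rfl | rfl | rfl
    · obtain ⟨p, hp, hp1⟩ := H.two
      rw [hO, List.mem_toFinset, mem_union] at hp
      rcases hp with h | ⟨c, hc, hbit, -⟩
      · exact absurd h hp1
      · interval_cases c <;> exact absurd hbit (by decide +kernel)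
    · rw [hO, List.toFinset_card_of_nodup (nodup_union hs)]; decide +kernel
    · rw [hO, List.toFinset_card_of_nodup (nodup_union hs)]; decide +kernel
    · exact (H.not_seven hO).elim
    · exact (H.not_all hO).elim
  · exfalso
    refine hne ?_
    have hp : (mem c).getD 0 0 ∈ O := by
      rw [hO, List.mem_toFinset, mem_union]; exact Or.inr ⟨c, hc, hbit, head_mem hc⟩
    rw [cnt_eq hs, cnt_eq hs, ← hO]
    exact H.count_eq hp

end CfsgLib.CosetEnum.M23Thompson.Homog
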