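/-
A perfect double cover of Fi22 is the centraliser of a transposition of Fi23.
-/
import Cfsg.Agent.Lib.CosetEnum.Fi22Mult.Main

set_option autoImplicit false
set_option maxRecDepth 1000000

namespace CfsgLib.CosetEnum.M23Thompson

open Cfsg CfsgLib.CosetEnum
open scoped commutatorElement

/-- A perfect central extension with kernel of order two. -/
def IsTwoCover {E G : Type} [Group E] [Group G] (π : E →* G) : Prop :=
  Function.Surjective π ∧ π.ker ≤ Subgroup.center E ∧ Nat.card π.ker = 2 ∧ commutator E = ⊤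

theorem comm_central {E : Type} [Group E] {a b c d : E} (ha : a ∈ Subgroup.center E) (hc : c ∈ Subgroup.center E) :
    ⁅b * a, d * c⁆ = ⁅b, d⁆ := by
  have ha' : ∀ x, a * x = x * a := fun x => (Subgroup.mem_center_iff.mp ha x).symm
  have hc' : ∀ x, c * x = x * c := fun x => (Subgroup.mem_center_iff.mp hc x).symm
  simp only [commutatorElement_def, mul_inv_rev]
  calc b * a * (d * c) * (a⁻¹ * b⁻¹) * (c⁻¹ * d⁻¹)
      = b * (a * (d * c)) * a⁻¹ * (b⁻¹ * c⁻¹) * d⁻¹ := by group
    _ = b * d * (c * b⁻¹) * c⁻¹ * d⁻¹ := by rw [ha']; group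
    _ = b * d * b⁻¹ * d⁻¹ := by rw [hc']; group

/-- **Two perfect double covers of Fi22 are isomorphic.** -/
theorem cover_unique {E₁ E₂ : Type} [Group E₁] [Group E₂] [Finite E₁] [Finite E₂] {π₁ : E₁ →* presFi22.Grp}
    {π₂ : E₂ →* presFi22.Grp} (h₁ : IsTwoCover π₁) (h₂ : IsTwoCover π₂) : Nonempty (E₁ ≃* E₂) := by
  classical
  obtain ⟨s₁, c₁, k₁, p₁⟩ := h₁
  obtain ⟨s₂, c₂, k₂, p₂⟩ := h₂
  haveI : Finite presFi22.Grp := Cfsg.Agent.S1696.upper.1
  let P : Subgroup (E₁ × E₂) := MonoidHom.eqLocus (π₁.comp (MonoidHom.fst E₁ E₂)) (π₂.comp (MonoidHom.snd E₁ E₂))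
  have hmem : ∀ x : E₁ × E₂, x ∈ P ↔ π₁ x.1 = π₂ x.2 := fun x => Iff.rfl
  let E := commutator ↥P
  let ρ : ↥E →* presFi22.Grp := π₁.comp ((MonoidHom.fst E₁ E₂).comp (P.subtype.comp E.subtype))
  have hρ2 : ∀ x : ↥E, ρ x = π₂ ((x : P) : E₁ × E₂).2 := fun x => (hmem _).mp (x : P).2
  have pf1 : Function.Surjective ((MonoidHom.fst E₁ E₂).comp P.subtype) := fun a => by
    obtain ⟨b, hb⟩ := s₂ (π₁ a); exact ⟨⟨(a, b), (hmem _).mpr hb.symm⟩, rfl⟩
  have pf2 : Function.Surjective ((MonoidHom.snd E₁ E₂).comp P.subtype) := fun b => by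
    obtain ⟨a, ha⟩ := s₁ (π₂ b); exact ⟨⟨(a, b), (hmem _).mpr ha⟩, rfl⟩
  let f₁ : ↥E →* E₁ := ((MonoidHom.fst E₁ E₂).comp P.subtype).comp E.subtype
  let f₂ : ↥E →* E₂ := ((MonoidHom.snd E₁ E₂).comp P.subtype).comp E.subtype
  have onto : ∀ {M : Type} [Group M] (g : ↥P →* M), Function.Surjective g → commutator M = ⊤ →
      Function.Surjective (g.comp E.subtype) := by
    intro M _ g hg hM m
    have : m ∈ E.map g := by
      rw [show E.map g = commutator M by
        rw [show E = commutator ↥P from rfl, commutator_def, commutator_def, Subgroup.map_commutator,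
          Subgroup.map_top_of_surjective g hg]]
      rw [hM]; exact Subgroup.mem_top m
    obtain ⟨e, he, rfl⟩ := this
    exact ⟨⟨e, he⟩, rfl⟩
  have o₁ : Function.Surjective f₁ := onto _ pf1 p₁
  have o₂ : Function.Surjective f₂ := onto _ pf2 p₂
  have oρ : Function.Surjective ρ := fun g => by
    obtain ⟨a, rfl⟩ := s₁ g
    obtain ⟨e, rfl⟩ := o₁ a
    exact ⟨e, rfl⟩
  have central : ∀ x : ↥P, π₁ (x : E₁ × E₂).1 = 1 → x ∈ Subgroup.center ↥P := by
    intro x hx
    refine Subgroup.mem_center_iff.mpr fun y => Subtype.ext (Prod.ext ?_ ?_)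
    · exact Subgroup.mem_center_iff.mp (c₁ (MonoidHom.mem_ker.mpr hx)) _
    · exact Subgroup.mem_center_iff.mp (c₂ (MonoidHom.mem_ker.mpr ((((hmem _).mp x.2)).symm.trans hx))) _
  have hker : ρ.ker ≤ Subgroup.center ↥E := fun x hx => Subgroup.mem_center_iff.mpr fun y =>
    Subtype.ext (Subgroup.mem_center_iff.mp (central (x : P) hx) (y : P))
  have hperf : commutator ↥E = ⊤ := by
    rw [eq_top_iff]
    intro x _
    have key : E ≤ (commutator ↥E).map E.subtype := by
      refine (le_of_eq (commutator_def ↥P)).trans (Subgroup.commutator_le.mpr ?_)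
      intro p _ q _
      obtain ⟨a, ha⟩ := oρ (π₁ (p : E₁ × E₂).1)
      obtain ⟨b, hb⟩ := oρ (π₁ (q : E₁ × E₂).1)
      change π₁ ((a : P) : E₁ × E₂).1 = _ at ha
      change π₁ ((b : P) : E₁ × E₂).1 = _ at hb
      refine ⟨⁅a, b⁆, Subgroup.commutator_mem_commutator (Subgroup.mem_top a) (Subgroup.mem_top b), ?_⟩
      rw [map_commutatorElement]
      have ca : (a : P)⁻¹ * p ∈ Subgroup.center ↥P := central _ (by
        simp only [Subgroup.coe_mul, InvMemClass.coe_inv, Prod.fst_mul, Prod.fst_inv, map_mul, map_inv, ha,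
          inv_mul_cancel])
      have cb : (b : P)⁻¹ * q ∈ Subgroup.center ↥P := central _ (by
        simp only [Subgroup.coe_mul, InvMemClass.coe_inv, Prod.fst_mul, Prod.fst_inv, map_mul, map_inv, hb,
          inv_mul_cancel])
      have := (comm_central (E := ↥P) (b := (a : P)) (d := (b : P)) ca cb)
      rw [mul_inv_cancel_left, mul_inv_cancel_left] at this
      exact this.symm
    obtain ⟨y, hy, e⟩ := key x.2
    exact (Subtype.ext e : y = x) ▸ hy
  haveI : Finite ↥E := inferInstance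
  obtain ⟨g, hg⟩ := Fi22Mult.kernel_image (E := ↥E) (π := ρ) ⟨oρ, hker, hperf ▸ le_top⟩
  have sq : ∀ x : ρ.ker, x * x = 1 := by
    have two : ∀ {M : Type} [Group M] (K : Subgroup M), Nat.card K = 2 → ∀ m ∈ K, m * m = 1 := by
      intro M _ K hK m hm
      have h := pow_card_eq_one' (x := (⟨m, hm⟩ : K))
      rw [hK, pow_two] at h
      exact congrArg Subtype.val h
    intro x
    apply Subtype.ext
    apply Subtype.ext
    apply Subtype.ext
    exact Prod.ext (two _ k₁ _ x.2) (two _ k₂ _ ((hρ2 _).symm.trans x.2))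
  have hk : Nat.card ρ.ker ≤ 2 := by
    set z := g (Multiplicative.ofAdd (1 : ZMod 6))
    have hgen : Subgroup.zpowers z = ⊤ := by
      rw [eq_top_iff]
      intro x _
      obtain ⟨m, rfl⟩ := hg x
      refine Subgroup.mem_zpowers_iff.mpr ⟨((Multiplicative.toAdd m).val : ℤ), ?_⟩
      rw [zpow_natCast, show z = g (Multiplicative.ofAdd 1) from rfl, ← map_pow]
      congr 1
      apply Multiplicative.toAdd.injective
      rw [toAdd_pow, toAdd_ofAdd, nsmul_one, ZMod.natCast_zmod_val]
    rw [← Subgroup.card_top, ← hgen, Nat.card_zpowers]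
    exact Nat.le_of_dvd (by norm_num) (orderOf_dvd_of_pow_eq_one (by rw [pow_two]; exact sq z))
  have hcard : ∀ {M : Type} [Group M] [Finite M] (π : M →* presFi22.Grp), Function.Surjective π → Nat.card π.ker = 2 →
      Nat.card M = Nat.card presFi22.Grp * 2 := by
    intro M _ _ π hπ hk
    rw [Subgroup.card_eq_card_quotient_mul_card_subgroup π.ker, hk,
      Nat.card_congr (QuotientGroup.quotientKerEquivOfSurjective π hπ).toEquiv]
  have hE : Nat.card ↥E ≤ Nat.card presFi22.Grp * 2 := by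
    rw [Subgroup.card_eq_card_quotient_mul_card_subgroup ρ.ker,
      Nat.card_congr (QuotientGroup.quotientKerEquivOfSurjective ρ oρ).toEquiv]
    exact Nat.mul_le_mul le_rfl hk
  have b₁ : Function.Bijective f₁ := (Nat.bijective_iff_surjective_and_card f₁).mpr
    ⟨o₁, le_antisymm (by rw [hcard π₁ s₁ k₁]; exact hE) (Nat.card_le_card_of_surjective f₁ o₁)⟩
  have b₂ : Function.Bijective f₂ := (Nat.bijective_iff_surjective_and_card f₂).mpr
    ⟨o₂, le_antisymm (by rw [hcard π₂ s₂ k₂]; exact hE) (Nat.card_le_card_of_surjective f₂ o₂)⟩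
  exact ⟨(MulEquiv.ofBijective f₁ b₁).symm.trans (MulEquiv.ofBijective f₂ b₂)⟩

/-- The centraliser of a transposition of Fi23 is a perfect double cover of Fi22. -/
theorem exists_hom : ∃ π : ↥Fi31671.cert.sub →* presFi22.Grp, IsTwoCover π := by
  classical
  haveI : Finite presFi23.Grp := Cfsg.Agent.S1697.upper.1
  haveI : Finite presFi22.Grp := Cfsg.Agent.S1696.upper.1
  haveI hS : IsSimpleGroup presFi22.Grp := Cfsg.Agent.S1696.result.1
  obtain ⟨hz, ⟨e⟩, hns⟩ := Fi23Class.double_cover
  let π : ↥Fi31671.cert.sub →* presFi22.Grp := MonoidHom.comp (MulEquiv.toMonoidHom e) (QuotientGroup.mk' (Subgroup.center ↥Fi31671.cert.sub))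
  have hπ : Function.Surjective π := e.surjective.comp (QuotientGroup.mk'_surjective _)
  have hker : π.ker = Subgroup.center ↥Fi31671.cert.sub := by
    ext x
    rw [MonoidHom.mem_ker]
    show e (QuotientGroup.mk x) = 1 ↔ _
    rw [map_eq_one_iff _ e.injective, QuotientGroup.eq_one_iff]
  refine ⟨π, hπ, hker.le, hker ▸ hz, ?_⟩
  set L := commutator ↥Fi31671.cert.sub
  have hnonab : commutator presFi22.Grp ≠ ⊥ := by
    intro h
    letI : CommGroup presFi22.Grp := { (inferInstance : Group presFi22.Grp) with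
      mul_comm := fun a b => by
        have := Subgroup.commutator_mem_commutator (Subgroup.mem_top a) (Subgroup.mem_top b)
        rwa [← commutator_def, h, Subgroup.mem_bot, commutatorElement_eq_one_iff_mul_comm] at this }
    have hp := IsSimpleGroup.prime_card (α := presFi22.Grp)
    rw [show Nat.card presFi22.Grp = 64561751654400 from Cfsg.Agent.S1696.result.2] at hp
    norm_num at hp
  have hmap : L.map π = ⊤ := by
    rw [show L = commutator ↥Fi31671.cert.sub from rfl, commutator_def, Subgroup.map_commutator,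
      Subgroup.map_top_of_surjective π hπ, ← commutator_def]
    exact ((inferInstance : (commutator presFi22.Grp).Normal).eq_bot_or_eq_top).resolve_left hnonab
  by_contra hL
  have hsup : L ⊔ Subgroup.center ↥Fi31671.cert.sub = ⊤ := by
    rw [← hker, ← Subgroup.comap_map_eq, hmap, Subgroup.comap_top]
  refine hns L ?_
  have hdisj : Disjoint (Subgroup.center ↥Fi31671.cert.sub) L := by
    rw [disjoint_iff]
    by_contra hne
    haveI : Fact (Nat.Prime 2) := ⟨Nat.prime_two⟩
    have h1 : Nat.card ↥(Subgroup.center ↥Fi31671.cert.sub ⊓ L) ∣ 2 := hz ▸ Subgroup.card_dvd_of_le inf_le_left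
    rcases (Nat.dvd_prime Nat.prime_two).mp h1 with h | h
    · exact hne (Subgroup.eq_bot_of_card_eq _ h)
    · have hle : Subgroup.center ↥Fi31671.cert.sub ≤ L :=
        (Subgroup.eq_of_le_of_card_ge inf_le_left (by rw [hz, h])).ge.trans inf_le_right
      exact hL (by rw [← hsup]; exact (sup_eq_left.mpr hle).symm)
  exact Subgroup.isComplement'_of_disjoint_and_mul_eq_univ hdisj (by
    rw [← Subgroup.normal_mul, sup_comm, hsup, Subgroup.coe_top])

end CfsgLib.CosetEnum.M23Thompson
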