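/-
A centraliser that is a perfect double cover of a group of type M(22), seen inside Fi23: its large elementary
abelian subgroups.
-/
import Cfsg.Agent.Lib.CosetEnum.M23Thompson.Concrete
import Cfsg.Agent.Lib.CosetEnum.M23Thompson.Cover
import Cfsg.Agent.Lib.ThreeTrans.M22.DoubleCover
import Cfsg.Agent.Lib.ThreeTrans.M22.Thompson
import Cfsg.Agent.Lib.ThreeTrans.M22.Unique.Iso
import Cfsg.Prelude.Def_CaseTheorems
import Cfsg.Prelude.Def_FischerSpaces

set_option autoImplicit false
set_option maxRecDepth 1000000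

namespace CfsgLib.CosetEnum.M23Thompson

open Cfsg CfsgLib.CosetEnum CfsgLib.CosetEnum.Fi23Syl CfsgThreeTrans CfsgThreeTrans.M22 CfsgThreeTrans.M22.CliqueCount

universe u

section
variable {C : Type u} [Group C] [Finite C] {N : Subgroup C} [N.Normal] {z : C} {D : Set (C ⧸ N)}

/-- An isomorphism with the centraliser of the base point of Fi23. -/
theorem exists_phi (hN : Nat.card N = 2) (hcen : N ≤ Subgroup.center C) (hperf : commutator C = ⊤)
    (hz : z ∈ N) (hz1 : z ≠ 1) (hG : IsThreeTranspositionGroup D) (hp : IsPrimitiveUnderConj D)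
    (h22 : IsOfTypeM22 (C ⧸ N) D) :
    ∃ φ : C ≃* ↥(Subgroup.centralizer ({Fi23Aut.tz} : Set presFi23.Grp)), (φ z : presFi23.Grp) = Fi23Aut.tz := by
  classical
  haveI : Finite presFi23.Grp := Cfsg.Agent.S1697.upper.1
  obtain ⟨e22, -⟩ := M22.Unique.exists_iso hG hp h22
  haveI : Finite (Shrink.{0} C) := Finite.of_equiv C (equivShrink.{0} C)
  let μ : Shrink.{0} C ≃* C := Shrink.mulEquiv
  let q : Shrink.{0} C →* C ⧸ N := (QuotientGroup.mk' N).comp (MulEquiv.toMonoidHom μ)
  let π : Shrink.{0} C →* presFi22.Grp := (MulEquiv.toMonoidHom e22.symm).comp q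
  have hker : π.ker = N.comap (MulEquiv.toMonoidHom μ) := by
    ext x
    rw [MonoidHom.mem_ker, Subgroup.mem_comap]
    show e22.symm (QuotientGroup.mk (μ x)) = 1 ↔ _
    rw [map_eq_one_iff _ e22.symm.injective, QuotientGroup.eq_one_iff]
    rfl
  have htc : IsTwoCover π := by
    refine ⟨e22.symm.surjective.comp ((QuotientGroup.mk'_surjective N).comp μ.surjective), fun x hx => ?_, ?_, ?_⟩
    · rw [hker, Subgroup.mem_comap] at hx
      exact Subgroup.mem_center_iff.mpr fun y => μ.injective (by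
        rw [map_mul, map_mul]; exact Subgroup.mem_center_iff.mp (hcen hx) (μ y))
    · rw [hker, ← hN]
      refine Nat.card_congr
        { toFun := fun x => ⟨μ x, x.2⟩
          invFun := fun y => ⟨μ.symm y, by
            show μ (μ.symm (y : C)) ∈ N
            rw [MulEquiv.apply_symm_apply]; exact y.2⟩
          left_inv := fun x => Subtype.ext (μ.symm_apply_apply _)
          right_inv := fun y => Subtype.ext (μ.apply_symm_apply _) }
    · have h : (commutator (Shrink.{0} C)).map (MulEquiv.toMonoidHom μ) = ⊤ := by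
        rw [commutator_def, Subgroup.map_commutator, Subgroup.map_top_of_surjective _ μ.surjective, ← commutator_def,
          hperf]
      rw [eq_top_iff]
      intro x _
      obtain ⟨y, hy, e⟩ := (h.symm ▸ Subgroup.mem_top (μ x) : μ x ∈ (commutator (Shrink.{0} C)).map _)
      exact μ.injective e ▸ hy
  obtain ⟨π', htc'⟩ := exists_hom
  obtain ⟨ψ⟩ := cover_unique htc htc'
  set H := Subgroup.centralizer ({Fi23Aut.tz} : Set presFi23.Grp)
  let φ : C ≃* ↥H := (μ.symm.trans ψ).trans (MulEquiv.subgroupCongr Fi23Class.facts.1.symm)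
  refine ⟨φ, ?_⟩
  have hcard : Nat.card (Subgroup.center ↥H) = 2 := by
    have e : Nat.card (Subgroup.center ↥H) = Nat.card (Subgroup.center ↥Fi31671.cert.sub) :=
      Nat.card_congr (Subgroup.centerCongr (MulEquiv.subgroupCongr Fi23Class.facts.1)).toEquiv
    rw [e]
    exact Fi23Class.double_cover.1
  set T : ↥H := ⟨Fi23Aut.tz, Subgroup.mem_centralizer_singleton_iff.mpr rfl⟩
  have hT : T ∈ Subgroup.center ↥H := Subgroup.mem_center_iff.mpr fun g =>
    Subtype.ext (Subgroup.mem_centralizer_singleton_iff.mp g.2)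
  have hzC : φ z ∈ Subgroup.center ↥H := Subgroup.mem_center_iff.mpr fun g => by
    obtain ⟨g', rfl⟩ := φ.surjective g
    rw [← map_mul, ← map_mul, Subgroup.mem_center_iff.mp (hcen hz) g']
  have hT1 : T ≠ 1 := fun e => Fi23Aut.t_ne (congrArg Subtype.val e)
  obtain ⟨x, y, hxy, htop⟩ := Nat.card_eq_two_iff.mp hcard
  have all : ∀ w : Subgroup.center ↥H, w ≠ 1 → w = ⟨T, hT⟩ := by
    intro w hw
    have hw' : w = x ∨ w = y := by simpa using (htop ▸ Set.mem_univ w : w ∈ ({x, y} : Set _))
    have h1 : (1 : Subgroup.center ↥H) = x ∨ (1 : Subgroup.center ↥H) = y := by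
      simpa using (htop ▸ Set.mem_univ _ : (1 : Subgroup.center ↥H) ∈ ({x, y} : Set _))
    have h2 : (⟨T, hT⟩ : Subgroup.center ↥H) = x ∨ (⟨T, hT⟩ : Subgroup.center ↥H) = y := by
      simpa using (htop ▸ Set.mem_univ _ : (⟨T, hT⟩ : Subgroup.center ↥H) ∈ ({x, y} : Set _))
    have h3 : (⟨T, hT⟩ : Subgroup.center ↥H) ≠ 1 := fun e => hT1 (congrArg Subtype.val e)
    rcases hw' with rfl | rfl <;> rcases h1 with h1 | h1 <;> rcases h2 with h2 | h2 <;>
      first
      | exact h2.symm
      | exact absurd (h1 ▸ rfl) hw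
      | exact absurd (h2.trans h1.symm) h3
  have := all ⟨φ z, hzC⟩ fun e => hz1 (φ.injective ((congrArg Subtype.val e).trans φ.map_one.symm))
  exact congrArg (fun w : Subgroup.center ↥H => ((w : ↥H) : presFi23.Grp)) this

/-- An involution of the double cover lies in an elementary abelian subgroup of order at least 2^11. -/
theorem invol_large (hN : Nat.card N = 2) (hcen : N ≤ Subgroup.center C) (hz : z ∈ N) (hz1 : z ≠ 1)
    (hG : IsThreeTranspositionGroup D) (hp : IsPrimitiveUnderConj D) (h22 : IsOfTypeM22 (C ⧸ N) D)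
    {e : C} (he : e * e = 1) :
    ∃ B : Subgroup C, IsElementaryAbelian 2 B ∧ 2048 ≤ Nat.card B ∧ e ∈ B := by
  classical
  obtain ⟨t, ht, h3, h2, F, iF, iFt, iDec, hF, ⟨A⟩⟩ := exists_full hG hp h22
  set ψ := QuotientGroup.mk' N
  have hψ : Function.Surjective ψ := QuotientGroup.mk'_surjective N
  have hz2 : z * z = 1 := by
    have h := pow_card_eq_one' (x := (⟨z, hz⟩ : N))
    rw [hN, pow_two] at h
    exact congrArg Subtype.val h
  have hker : ∀ a, ψ a = 1 → a = 1 ∨ a = z := by
    intro a ha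
    obtain ⟨x, y, hxy, htop⟩ := Nat.card_eq_two_iff.mp hN
    have m : ∀ w : N, w = x ∨ w = y := fun w => by simpa using (htop ▸ Set.mem_univ w : w ∈ ({x, y} : Set _))
    by_contra hne
    push Not at hne
    have ne1 : (⟨a, (QuotientGroup.eq_one_iff a).mp ha⟩ : N) ≠ 1 := fun h => hne.1 (congrArg Subtype.val h)
    have nez : (⟨a, (QuotientGroup.eq_one_iff a).mp ha⟩ : N) ≠ ⟨z, hz⟩ := fun h => hne.2 (congrArg Subtype.val h)
    have n1z : (1 : N) ≠ ⟨z, hz⟩ := fun h => hz1 (congrArg Subtype.val h).symm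
    rcases m ⟨a, (QuotientGroup.eq_one_iff a).mp ha⟩ with p | p <;> rcases m 1 with q | q <;>
      rcases m ⟨z, hz⟩ with r | r <;>
      first
      | exact ne1 (p.trans q.symm)
      | exact nez (p.trans r.symm)
      | exact n1z (q.trans r.symm)
  have hzc : ∀ a, Commute z a := fun a => (Subgroup.mem_center_iff.mp (hcen hz) a).symm
  have hzψ : ψ z = 1 := (QuotientGroup.eq_one_iff z).mpr hz
  obtain ⟨l, -, -, hm, hc, hl⟩ := short_invol hG hp ht h3 h2 h22 A (x := ψ e) (by rw [← map_mul, he, map_one])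
  -- a maximal commuting set containing the factors
  have hcl := cls_of_group_prim hG hp
  obtain ⟨E, hE, hlE⟩ : ∃ E, IsClique D E ∧ ∀ a ∈ l, a ∈ E := by
    let P : Set (Set (C ⧸ N)) := {E | E ⊆ D ∧ (∀ a ∈ E, ∀ b ∈ E, Commute a b) ∧ ∀ a ∈ l, a ∈ E}
    have hP : {a | a ∈ l} ∈ P := ⟨hm, fun a ha b hb => hc a ha b hb, fun a ha => ha⟩
    obtain ⟨E, hE⟩ := (Set.toFinite P).exists_maximal ⟨_, hP⟩
    refine ⟨E, ⟨hE.1.1, hE.1.2.1, fun c hc' hcc => ?_⟩, hE.1.2.2⟩
    have hins : insert c E ∈ P := by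
      refine ⟨Set.insert_subset hc' hE.1.1, ?_, fun a ha => Set.mem_insert_of_mem _ (hE.1.2.2 a ha)⟩
      rintro a (rfl | ha) b (rfl | hb)
      exacts [Commute.refl _, (hcc b hb).symm, hcc a ha, hE.1.2.1 a ha b hb]
    exact hE.2 hins (Set.subset_insert _ _) (Set.mem_insert _ _)
  obtain ⟨a, ha⟩ : E.Nonempty := by
    by_contra hne
    rw [Set.not_nonempty_iff_eq_empty] at hne
    exact (hne ▸ hE.2.2 A.t A.ht (fun b hb => absurd hb (by simp [hne])) : A.t ∈ (∅ : Set (C ⧸ N)))
  obtain ⟨g, -, g2⟩ := clique_move hcl A hE ha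
  have hcardK : 1024 ≤ Nat.card (Subgroup.closure E) := by
    refine (Thompson.card_A0 hG hp h22 A).trans (le_of_eq ?_)
    rw [← g2, show (fun w => g * w * g⁻¹) '' E = (MulAut.conj g).toMonoidHom '' E from rfl, ← MonoidHom.map_closure,
      Subgroup.card_map_of_injective (MulAut.conj g).injective]
  let B := Subgroup.closure (insert z {y : C | ψ y ∈ E})
  have hgen : ∀ p ∈ insert z {y : C | ψ y ∈ E}, ∀ q ∈ insert z {y : C | ψ y ∈ E}, Commute p q := by
    rintro p (rfl | hp') q (rfl | hq')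
    exacts [Commute.refl _, hzc q, (hzc p).symm,
      lift_members_commute ψ hψ hker hz2 hzc hzψ hG hp ht h3 h2 h22 A (hE.1 hp') (hE.1 hq')
        (hE.2.1 _ hp' _ hq') rfl rfl]
  have hBc : ∀ p ∈ B, ∀ q ∈ B, Commute p q := by
    have h1 : B ≤ Subgroup.centralizer (B : Set C) := by
      rw [Subgroup.closure_le]
      intro p hp'
      rw [SetLike.mem_coe, Subgroup.mem_centralizer_iff]
      intro q hq'
      have h2 : B ≤ Subgroup.centralizer ({p} : Set C) := (Subgroup.closure_le _).mpr fun q' hq'' =>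
        Subgroup.mem_centralizer_singleton_iff.mpr (hgen q' hq'' p hp').eq
      exact Subgroup.mem_centralizer_singleton_iff.mp (h2 hq')
    exact fun p hp' q hq' => (Subgroup.mem_centralizer_iff.mp (h1 hp') q hq').symm
  have hBs : ∀ p ∈ B, p * p = 1 := by
    intro p hp'
    induction hp' using Subgroup.closure_induction with
    | mem x hx =>
      rcases hx with rfl | hx
      · exact hz2
      · exact lift_member_sq ψ hψ hker hz2 hzc hzψ hG hp ht h3 h2 h22 A (hE.1 hx) rfl
    | one => exact one_mul _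
    | mul x y hx hy ihx ihy => rw [(hBc x hx y hy).symm.mul_mul_mul_comm, ihx, ihy, one_mul]
    | inv x hx ih => rw [← _root_.mul_inv_rev, ih, inv_one]
  have hNB : N ≤ B := fun p hp' => by
    rcases hker p ((QuotientGroup.eq_one_iff p).mpr hp') with rfl | rfl
    exacts [one_mem _, Subgroup.subset_closure (Set.mem_insert _ _)]
  have hmap : B.map ψ = Subgroup.closure E := by
    refine le_antisymm ?_ ((Subgroup.closure_le _).mpr fun x hx => ?_)
    · rw [MonoidHom.map_closure, Subgroup.closure_le]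
      rintro _ ⟨p, rfl | hp', rfl⟩
      · rw [hzψ]; exact one_mem _
      · exact Subgroup.subset_closure hp'
    · obtain ⟨y, rfl⟩ := hψ x
      exact ⟨y, Subgroup.subset_closure (Set.mem_insert_of_mem _ hx), rfl⟩
  have hcomap : B = (Subgroup.closure E).comap ψ := by
    rw [← hmap, Subgroup.comap_map_eq, QuotientGroup.ker_mk', sup_eq_left.mpr hNB]
  refine ⟨B, ⟨⟨⟨fun p q => Subtype.ext (hBc p p.2 q q.2).eq⟩⟩, fun p hp' => by rw [pow_two]; exact hBs p hp'⟩,
    ?_, ?_⟩
  · have e1 := Subgroup.card_mul_index B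
    have e2 := Subgroup.card_mul_index (Subgroup.closure E)
    have e3 : B.index = (Subgroup.closure E).index := by rw [hcomap, Subgroup.index_comap_of_surjective _ hψ]
    have e4 : Nat.card C = Nat.card (C ⧸ N) * Nat.card N := Subgroup.card_eq_card_quotient_mul_card_subgroup N
    rw [e3, e4, hN, ← e2, mul_assoc, mul_comm _ 2, ← mul_assoc] at e1
    have hi : 0 < (Subgroup.closure E).index := Nat.pos_of_ne_zero (Subgroup.index_ne_zero_of_finite)
    have := Nat.eq_of_mul_eq_mul_right hi e1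
    omega
  · rw [hcomap, Subgroup.mem_comap, show ψ e = l.prod from hl.symm]
    exact list_prod_mem fun x hx => Subgroup.subset_closure (hlE x hx)

end

end CfsgLib.CosetEnum.M23Thompson
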