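/-
The Thompson subgroup of a centraliser that is a double cover of a group of type M(22) contains 23 conjugates of
the involution, permuted transitively by its normaliser.
-/
import Cfsg.Agent.Lib.CosetEnum.M23Thompson.Setup
import Cfsg.Agent.Lib.CosetEnum.M23Thompson.Count
import Cfsg.Prelude.Def_Transfer

set_option autoImplicit false
set_option maxRecDepth 1000000

namespace CfsgLib.CosetEnum.M23Thompson

open Cfsg CfsgLib.CosetEnum CfsgLib.CosetEnum.Fi23Syl CfsgThreeTrans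

universe u

variable {G : Type u} [Group G] [Finite G]

theorem base_len_vecs : Fi23Syl.vecs.length = 23 := by decide

theorem thompson_of_phi (d : G) (hd : orderOf d = 2) (C : Subgroup G) (hC : C = Subgroup.centralizer ({d} : Set G))
    {H : Subgroup presFi23.Grp} (hH : H = Subgroup.centralizer ({Fi23Aut.tz} : Set presFi23.Grp))
    (φ : ↥C ≃* ↥H) (hφ : ∀ z : ↥C, (z : G) = d → (φ z : presFi23.Grp) = Fi23Aut.tz)
    (hlarge : ∀ e : ↥C, e * e = 1 → ∃ B : Subgroup ↥C, IsElementaryAbelian 2 B ∧ 2048 ≤ Nat.card B ∧ e ∈ B)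
    (hnwc : ∃ g : G, g * d * g⁻¹ ∈ C ∧ g * d * g⁻¹ ≠ d) (S : Sylow 2 ↥C) (A : Subgroup G)
    (hA : A = (Cfsg.thompsonSubgroupOf 2 (S : Subgroup ↥C)).map C.subtype) :
    Cfsg.IsElementaryAbelian 2 A ∧ Nat.card A = 2 ^ 11 ∧ Set.ncard {x : G | x ∈ A ∧ IsConj d x} = 23 ∧
      ∀ x ∈ A, ∀ y ∈ A, IsConj d x → IsConj d y → ∃ n ∈ Subgroup.normalizer (A : Set G), n * x * n⁻¹ = y := by
  classical
  haveI : Finite presFi23.Grp := Cfsg.Agent.S1697.upper.1
  haveI : Fact (Nat.Prime 2) := ⟨Nat.prime_two⟩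
  have memC : ∀ {x : G}, x ∈ C ↔ x * d = d * x := fun {x} => by rw [hC, Subgroup.mem_centralizer_singleton_iff]
  have memH : ∀ {x : presFi23.Grp}, x ∈ H ↔ x ∈ Subgroup.centralizer ({Fi23Aut.tz} : Set presFi23.Grp) :=
    fun {x} => by rw [hH]
  let j : ↥C →* presFi23.Grp := H.subtype.comp φ.toMonoidHom
  have jinj : Function.Injective j := Subtype.val_injective.comp φ.injective
  have jmem : ∀ x, j x ∈ H := fun x => (φ x).2
  have jsurj : ∀ h ∈ H, ∃ x, j x = h := fun h hh => ⟨φ.symm ⟨h, hh⟩, congrArg Subtype.val (φ.apply_symm_apply _)⟩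
  -- elementary abelian subgroups of order at least 2^11 of the centraliser
  have conjC : ∀ B : Subgroup ↥C, IsElementaryAbelian 2 B → 2048 ≤ Nat.card B →
      ∃ c : ↥C, (∀ b ∈ B, j (c * b * c⁻¹) ∈ eSub) ∧ ∀ e ∈ eSub, ∃ b ∈ B, j (c * b * c⁻¹) = e := by
    intro B hB hBc
    obtain ⟨h, hh, he⟩ := conj_eSub (B := B.map j) (by rintro _ ⟨b, -, rfl⟩; exact memH.mp (jmem b))
      (elementary_map j hB) (by rwa [Subgroup.card_map_of_injective jinj])
    obtain ⟨c, rfl⟩ := jsurj h (memH.mpr hh)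
    refine ⟨c, fun b hb => ?_, fun e he' => ?_⟩
    · rw [← he, map_mul, map_mul, map_inv]
      exact ⟨_, ⟨b, hb, rfl⟩, rfl⟩
    · rw [← he] at he'
      obtain ⟨_, ⟨b, hb, rfl⟩, rfl⟩ := he'
      exact ⟨b, hb, by rw [map_mul, map_mul, map_inv]; rfl⟩
  let E0 : Subgroup ↥C := eSub.comap j
  have hE0 : IsElementaryAbelian 2 E0 := by
    refine ⟨⟨⟨fun a b => Subtype.ext (jinj ?_)⟩⟩, fun a ha => jinj (by rw [map_pow, map_one]; exact eSub_elementary.2 _ ha)⟩
    rw [Subgroup.coe_mul, Subgroup.coe_mul, map_mul, map_mul]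
    exact congrArg Subtype.val (eSub_elementary.1.is_comm.comm ⟨_, a.2⟩ ⟨_, b.2⟩)
  have hE0c : Nat.card E0 = 2048 := by
    have e : E0.map j = eSub := by
      rw [Subgroup.map_comap_eq, inf_eq_right]
      exact fun e he => jsurj e (memH.mpr (eSub_le he))
    rw [← card_eSub, ← e, Subgroup.card_map_of_injective jinj]
  have two : ∀ B : Subgroup ↥C, IsElementaryAbelian 2 B → IsPGroup 2 B := fun B hB b =>
    ⟨1, Subtype.ext (by simpa using hB.2 _ b.2)⟩
  obtain ⟨R, hR⟩ := (two E0 hE0).exists_le_sylow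
  obtain ⟨g, hg⟩ := MulAction.exists_smul_eq (↥C) R S
  let B0 : Subgroup ↥C := E0.map (MulAut.conj g).toMonoidHom
  have hB0 : IsElementaryAbelian 2 B0 := elementary_map _ hE0
  have hB0c : Nat.card B0 = 2048 := by rw [Subgroup.card_map_of_injective (MulAut.conj g).injective, hE0c]
  have hB0S : B0 ≤ (S : Subgroup ↥C) := by
    rintro _ ⟨e, he, rfl⟩
    rw [← hg]
    change _ ∈ (↑(g • R) : Subgroup ↥C)
    rw [Sylow.coe_subgroup_smul, Subgroup.mem_pointwise_smul_iff_inv_smul_mem]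
    simpa [mul_assoc] using hR he
  have huniq : ∀ B : Subgroup ↥C, B ≤ (S : Subgroup ↥C) → IsElementaryAbelian 2 B → 2048 ≤ Nat.card B → B = B0 := by
    intro B hBS hB hBc
    refine Subgroup.map_injective jinj (large_unique (Q := (S : Subgroup ↥C).map j) (S.2.map _) (Subgroup.map_mono hBS)
      (elementary_map j hB) (by rwa [Subgroup.card_map_of_injective jinj]) (Subgroup.map_mono hB0S)
      (elementary_map j hB0) (by rw [Subgroup.card_map_of_injective jinj, hB0c])).1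
  have hJ : Cfsg.thompsonSubgroupOf 2 (S : Subgroup ↥C) = B0 := by
    unfold Cfsg.thompsonSubgroupOf Cfsg.thompsonSubgroup
    have hB0' : IsElementaryAbelian 2 (B0.subgroupOf (S : Subgroup ↥C)) :=
      ⟨⟨⟨fun a b => Subtype.ext (Subtype.ext (by
        have := congrArg Subtype.val (hB0.1.is_comm.comm ⟨_, a.2⟩ ⟨_, b.2⟩)
        simpa using this))⟩⟩,
        fun a ha => Subtype.ext (by rw [Subgroup.coe_pow]; exact hB0.2 _ ha)⟩
    have hc0 : Nat.card (B0.subgroupOf (S : Subgroup ↥C)) = 2048 := by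
      rw [Nat.card_congr (Subgroup.subgroupOfEquivOfLe hB0S).toEquiv, hB0c]
    have hmax : ∀ B : Subgroup (S : Subgroup ↥C), IsElementaryAbelian 2 B → 2048 ≤ Nat.card B →
        B.map (S : Subgroup ↥C).subtype = B0 := fun B hB hBc =>
      huniq _ (by rintro _ ⟨b, -, rfl⟩; exact b.2) (elementary_map _ hB) (by rwa [Subgroup.card_subtype])
    have hset : Cfsg.maxElementaryAbelianSubgroups 2 (S : Subgroup ↥C) = {B0.subgroupOf (S : Subgroup ↥C)} := by
      ext B
      refine ⟨fun ⟨hB, hBmax⟩ => ?_, fun e => ?_⟩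
      · have h1 := hBmax _ hB0'
        rw [hc0] at h1
        show B = _
        rw [← hmax B hB h1]
        exact (Subgroup.comap_map_eq_self_of_injective Subtype.val_injective B).symm
      · rw [Set.mem_singleton_iff] at e
        subst e
        refine ⟨hB0', fun B hB => ?_⟩
        rw [hc0]
        by_contra hlt
        push Not at hlt
        have := congrArg (fun K : Subgroup ↥C => Nat.card K) (hmax B hB hlt.le)
        simp only [Subgroup.card_subtype, hB0c] at this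
        omega
    rw [hset, sSup_singleton, Subgroup.map_subgroupOf_eq_of_le hB0S]
  rw [hJ] at hA
  -- coordinates
  let pre : ℕ → ↥C := fun m => φ.symm ⟨eEl (m % 2048), memH.mpr (eSub_le ⟨m % 2048, Nat.mod_lt _ (by norm_num), rfl⟩)⟩
  let ι : ℕ → G := fun m => ((g * pre m * g⁻¹ : ↥C) : G)
  have jpre : ∀ {m}, m < 2048 → j (pre m) = eEl m := fun {m} hm => by
    show ((φ (φ.symm _)) : presFi23.Grp) = _
    rw [MulEquiv.apply_symm_apply]
    show eEl (m % 2048) = _
    rw [Nat.mod_eq_of_lt hm]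
  have memA : ∀ x, x ∈ A ↔ ∃ m < 2048, ι m = x := by
    intro x
    rw [hA]
    constructor
    · rintro ⟨_, ⟨e, he, rfl⟩, rfl⟩
      obtain ⟨m, hm, hme⟩ := (he : j e ∈ eSub)
      refine ⟨m, hm, ?_⟩
      have : pre m = e := jinj ((jpre hm).trans hme)
      show ((g * pre m * g⁻¹ : ↥C) : G) = _
      rw [this]; rfl
    · rintro ⟨m, hm, rfl⟩
      exact ⟨_, ⟨pre m, show j (pre m) ∈ eSub from jpre hm ▸ ⟨m, hm, rfl⟩, rfl⟩, rfl⟩
  have ιadd : ∀ {a b}, a < 2048 → b < 2048 → ι (Nat.xor a b) = ι a * ι b := fun {a b} ha hb => by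
    have e : pre (Nat.xor a b) = pre a * pre b := jinj (by
      rw [map_mul, jpre ha, jpre hb, jpre (xor_lt ha hb), eEl_mul])
    show ((g * pre (Nat.xor a b) * g⁻¹ : ↥C) : G) = ((g * pre a * g⁻¹ : ↥C) : G) * ((g * pre b * g⁻¹ : ↥C) : G)
    rw [e, ← Subgroup.coe_mul]
    congr 1
    group
  have ιinj : ∀ {a b}, a < 2048 → b < 2048 → ι a = ι b → a = b := fun {a b} ha hb e => by
    have e1 : g * pre a * g⁻¹ = g * pre b * g⁻¹ := Subtype.ext e
    have e2 : pre a = pre b := mul_left_cancel (mul_right_cancel e1)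
    exact eEl_inj ha hb (by rw [← jpre ha, ← jpre hb, e2])
  set Z : ↥C := ⟨d, memC.mpr rfl⟩
  have hZc : ∀ x : ↥C, Commute Z x := fun x => Subtype.ext (memC.mp x.2).symm
  have ιone : ι 1 = d := by
    have e : pre 1 = Z := jinj (by rw [jpre (by norm_num), eEl_one]; exact (hφ Z rfl).symm)
    show ((g * pre 1 * g⁻¹ : ↥C) : G) = d
    rw [e, (hZc g).symm.eq, mul_inv_cancel_right]
  have ιzero : ι 0 = 1 := by
    have := ιadd (show 0 < 2048 by norm_num) (show 0 < 2048 by norm_num)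
    simpa using this
  have move : ∀ n ∈ Subgroup.normalizer (A : Set G), ∃ σ : ℕ → ℕ,
      ∀ m < 2048, σ m < 2048 ∧ ι (σ m) = n * ι m * n⁻¹ := by
    intro n hn
    have : ∀ m, ∃ k, m < 2048 → k < 2048 ∧ ι k = n * ι m * n⁻¹ := by
      intro m
      by_cases hm : m < 2048
      · obtain ⟨k, hk, e⟩ := (memA _).mp ((Subgroup.mem_normalizer_iff.mp hn _).mp ((memA _).mpr ⟨m, hm, rfl⟩))
        exact ⟨k, fun _ => ⟨hk, e⟩⟩
      · exact ⟨0, fun h => absurd h hm⟩
    choose σ hσ using this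
    exact ⟨σ, hσ⟩
  let Mv : (ℕ → ℕ) → Prop := fun σ =>
    ∃ n ∈ Subgroup.normalizer (A : Set G), ∀ m < 2048, σ m < 2048 ∧ ι (σ m) = n * ι m * n⁻¹
  have normA : ∀ n : G, (∀ m < 2048, n * ι m * n⁻¹ ∈ A) → n ∈ Subgroup.normalizer (A : Set G) := by
    intro n h
    have hle : A.map (MulAut.conj n).toMonoidHom ≤ A := by
      rintro _ ⟨x, hx, rfl⟩
      obtain ⟨m, hm, rfl⟩ := (memA x).mp hx
      exact h m hm
    have heq := Subgroup.eq_of_le_of_card_ge hle
      (le_of_eq (Subgroup.card_map_of_injective (MulAut.conj n).injective).symm)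
    refine Subgroup.mem_normalizer_iff.mpr fun x => ⟨fun hx => hle ⟨x, hx, rfl⟩, fun hx => ?_⟩
    rw [← heq] at hx
    obtain ⟨y, hy, e⟩ := hx
    exact (MulAut.conj n).injective e ▸ hy
  -- the elements of the stabiliser in Fi23
  have lift0 : ∀ h ∈ stab0, ∃ σ, Mv σ ∧ σ 1 = 1 ∧
      ∀ a b, a < 2048 → b < 2048 → h * eEl a * h⁻¹ = eEl b → σ a = b := by
    intro h hh
    obtain ⟨c, hc⟩ := jsurj h (memH.mpr hh.2)
    let n : G := ((g * c * g⁻¹ : ↥C) : G)
    have hconj : ∀ a b, a < 2048 → b < 2048 → h * eEl a * h⁻¹ = eEl b → n * ι a * n⁻¹ = ι b := by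
      intro a b ha hb e
      have e' : c * pre a * c⁻¹ = pre b := jinj (by rw [map_mul, map_mul, map_inv, hc, jpre ha, jpre hb, e])
      show ((g * c * g⁻¹ : ↥C) : G) * ((g * pre a * g⁻¹ : ↥C) : G) * (((g * c * g⁻¹ : ↥C) : G))⁻¹ = _
      rw [← InvMemClass.coe_inv, ← Subgroup.coe_mul, ← Subgroup.coe_mul]
      show ((_ : ↥C) : G) = ((g * pre b * g⁻¹ : ↥C) : G)
      rw [← e']
      congr 1
      group
    have hnA : n ∈ Subgroup.normalizer (A : Set G) := normA n fun m hm => by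
      obtain ⟨k, hk, e⟩ := (Subgroup.mem_normalizer_iff.mp hh.1 _).mp ⟨m, hm, rfl⟩
      rw [hconj m k hm hk e.symm]
      exact (memA _).mpr ⟨k, hk, rfl⟩
    obtain ⟨σ, hσ⟩ := move n hnA
    have hval : ∀ a b, a < 2048 → b < 2048 → h * eEl a * h⁻¹ = eEl b → σ a = b := fun a b ha hb e =>
      ιinj (hσ a ha).1 hb ((hσ a ha).2.trans (hconj a b ha hb e))
    refine ⟨σ, ⟨n, hnA, hσ⟩, hval 1 1 (by norm_num) (by norm_num) ?_, hval⟩
    rw [eEl_one, show h * Fi23Aut.tz = Fi23Aut.tz * h from Subgroup.mem_centralizer_singleton_iff.mp hh.2,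
      mul_inv_cancel_right]
  set O := (Finset.range 2048).filter fun m => IsConj d (ι m) with hO
  have memO : ∀ {m}, m ∈ O ↔ m < 2048 ∧ IsConj d (ι m) := fun {m} => by simp [O]
  have Acomm : ∀ x ∈ A, ∀ y ∈ A, x * y = y * x := by
    intro x hx y hy
    rw [hA] at hx hy
    obtain ⟨a, ha, rfl⟩ := hx
    obtain ⟨b, hb, rfl⟩ := hy
    rw [← map_mul, ← map_mul, show a * b = b * a from congrArg Subtype.val (hB0.1.is_comm.comm ⟨a, ha⟩ ⟨b, hb⟩)]
  have hAe : IsElementaryAbelian 2 A := hA ▸ elementary_map _ hB0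
  have hAc : Nat.card A = 2048 := by rw [hA, Subgroup.card_subtype, hB0c]
  -- moving the involution to any of its conjugates inside the normaliser
  have trans : ∀ p < 2048, IsConj d (ι p) → ∃ n ∈ Subgroup.normalizer (A : Set G), n * d * n⁻¹ = ι p := by
    intro p hp hconj
    obtain ⟨k, hk⟩ := isConj_iff.mp hconj
    have hle : ∀ x ∈ A, k⁻¹ * x * k ∈ C := by
      intro x hx
      refine memC.mpr ?_
      have hc := Acomm x hx _ ((memA _).mpr ⟨p, hp, rfl⟩)
      rw [← hk] at hc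
      calc k⁻¹ * x * k * d = k⁻¹ * (x * (k * d * k⁻¹)) * k := by group
        _ = k⁻¹ * ((k * d * k⁻¹) * x) * k := by rw [hc]
        _ = d * (k⁻¹ * x * k) := by group
    let B : Subgroup ↥C := (A.map (MulAut.conj k⁻¹).toMonoidHom).subgroupOf C
    have hmle : A.map (MulAut.conj k⁻¹).toMonoidHom ≤ C := by
      rintro _ ⟨x, hx, rfl⟩; simpa using hle x hx
    have hBe : IsElementaryAbelian 2 B := by
      have hm := elementary_map (MulAut.conj k⁻¹).toMonoidHom hAe
      exact ⟨⟨⟨fun a b => Subtype.ext (Subtype.ext (by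
          have := congrArg Subtype.val (hm.1.is_comm.comm ⟨_, a.2⟩ ⟨_, b.2⟩)
          exact this))⟩⟩,
        fun a ha => Subtype.ext (by rw [Subgroup.coe_pow]; exact hm.2 _ ha)⟩
    have hBc : Nat.card B = 2048 := by
      rw [Nat.card_congr (Subgroup.subgroupOfEquivOfLe hmle).toEquiv,
        Subgroup.card_map_of_injective (MulAut.conj k⁻¹).injective, hAc]
    obtain ⟨c, -, hc⟩ := conjC B hBe hBc.ge
    refine ⟨k * ((c⁻¹ * g⁻¹ : ↥C) : G), normA _ fun m hm => ?_, ?_⟩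
    · obtain ⟨b, hb, e⟩ := hc (eEl m) ⟨m, hm, rfl⟩
      have hb' : c * b * c⁻¹ = pre m := jinj (e.trans (jpre hm).symm)
      obtain ⟨x, hx, hxb⟩ := (hb : (b : G) ∈ A.map (MulAut.conj k⁻¹).toMonoidHom)
      have hxb' : (b : G) = k⁻¹ * x * k := by
        rw [show (b : G) = (MulAut.conj k⁻¹).toMonoidHom x from hxb.symm]; simp
      have : k * ((c⁻¹ * g⁻¹ : ↥C) : G) * ι m * (k * ((c⁻¹ * g⁻¹ : ↥C) : G))⁻¹ = x := by
        show k * ((c⁻¹ * g⁻¹ : ↥C) : G) * ((g * pre m * g⁻¹ : ↥C) : G) * _ = x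
        rw [← hb', mul_inv_rev k, mul_assoc k, ← Subgroup.coe_mul, ← InvMemClass.coe_inv,
          show c⁻¹ * g⁻¹ * (g * (c * b * c⁻¹) * g⁻¹) = b * (c⁻¹ * g⁻¹) by group, Subgroup.coe_mul, hxb',
          InvMemClass.coe_inv]
        group
      rw [this]
      exact hx
    · rw [← hk]
      have := congrArg Subtype.val (hZc (c⁻¹ * g⁻¹)).eq
      simp only [Subgroup.coe_mul, InvMemClass.coe_inv] at this ⊢
      calc k * ((c : G)⁻¹ * (g : G)⁻¹) * d * (k * ((c : G)⁻¹ * (g : G)⁻¹))⁻¹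
          = k * (((c : G)⁻¹ * (g : G)⁻¹) * d) * (((c : G)⁻¹ * (g : G)⁻¹))⁻¹ * k⁻¹ := by group
        _ = k * d * k⁻¹ := by
            rw [show ((c : G)⁻¹ * (g : G)⁻¹) * d = d * ((c : G)⁻¹ * (g : G)⁻¹) from this.symm]; group
  have hd1 : d ≠ 1 := fun h => by rw [h, orderOf_one] at hd; norm_num at hd
  have hd2 : d * d = 1 := by
    have h := pow_orderOf_eq_one d
    rwa [hd, pow_two] at h
  have Hh : Homog Mv O :=
  { lt := fun {σ} ⟨n, _, h⟩ {m} hm => (h m hm).1
    add := fun {σ} ⟨n, _, h⟩ {a b} ha hb => by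
      refine ιinj (h _ (xor_lt ha hb)).1 (xor_lt (h a ha).1 (h b hb).1) ?_
      rw [(h _ (xor_lt ha hb)).2, ιadd ha hb, ιadd (h a ha).1 (h b hb).1, (h a ha).2, (h b hb).2]
      group
    one := ⟨1, one_mem _, fun m hm => ⟨hm, by rw [one_mul, inv_one, mul_one]; rfl⟩⟩
    comp := fun {σ τ} ⟨n, hn, h⟩ ⟨k, hk, h'⟩ => ⟨n * k, mul_mem hn hk, fun m hm =>
      ⟨(h _ (h' m hm).1).1, by rw [Function.comp_apply, (h _ (h' m hm).1).2, (h' m hm).2]; group⟩⟩
    inv := fun {σ} ⟨n, hn, h⟩ => by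
      obtain ⟨τ, hτ⟩ := move n⁻¹ (inv_mem hn)
      refine ⟨τ, ⟨n⁻¹, inv_mem hn, hτ⟩, fun m hm => ⟨?_, ?_⟩⟩
      · refine ιinj (hτ _ (h m hm).1).1 hm ?_
        rw [(hτ _ (h m hm).1).2, (h m hm).2]; group
      · refine ιinj (h _ (hτ m hm).1).1 hm ?_
        rw [(h _ (hτ m hm).1).2, (hτ m hm).2]; group
    stab := fun {σ} ⟨n, hn, h⟩ h1 m hm => by
      have hmb := mem_range' (show 0 < 5 by norm_num) hm
      have hnC : n ∈ C := by
        have e := (h 1 (by norm_num)).2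
        rw [h1, ιone] at e
        exact memC.mpr (eq_mul_inv_iff_mul_eq.mp e).symm
      have htr : IsTr m := by
        have hv := classes_spec.2.2.2.2.2.1 m hm
        obtain ⟨i, hi, hie⟩ := List.getElem_of_mem hv
        have hi23 : i < 23 := base_len_vecs ▸ hi
        have := isTr_vec hi23
        rwa [List.getD_eq_getElem _ _ hi, hie] at this
      have hlt := (h m hmb.2).1
      have e : g * pre (σ m) * g⁻¹ = (⟨n, hnC⟩ : ↥C) * (g * pre m * g⁻¹) * (⟨n, hnC⟩ : ↥C)⁻¹ :=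
        Subtype.ext (h m hmb.2).2
      have e' : pre (σ m) = (g⁻¹ * ⟨n, hnC⟩ * g) * pre m * (g⁻¹ * ⟨n, hnC⟩ * g)⁻¹ := by
        calc pre (σ m) = g⁻¹ * (g * pre (σ m) * g⁻¹) * g := by group
          _ = _ := by rw [e]; group
      have hts : IsTr (σ m) := by
        refine (htr : IsConj _ _).trans (isConj_iff.mpr ⟨j (g⁻¹ * ⟨n, hnC⟩ * g), ?_⟩)
        rw [← jpre hmb.2, ← jpre hlt, e']
        simp only [map_mul, map_inv]
      have h2 : 2 ≤ σ m := by
        have i0 : ι (σ m) ≠ 1 := fun h0 => by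
          rw [(h m hmb.2).2, mul_inv_eq_one, mul_eq_left] at h0
          have := ιinj hmb.2 (show 0 < 2048 by norm_num) (h0.trans ιzero.symm)
          omega
        have i1 : σ m ≠ 1 := fun h0 => by
          have e0 := (h m hmb.2).2
          have e1 := (h 1 (by norm_num)).2
          rw [h0] at e0
          rw [h1] at e1
          have := ιinj hmb.2 (show 1 < 2048 by norm_num) (mul_left_cancel (mul_right_cancel (e0.symm.trans e1)))
          omega
        have i2 : σ m ≠ 0 := fun h0 => i0 (by rw [h0, ιzero])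
        omega
      obtain ⟨c, hc, hcm⟩ := classes_spec.1 (σ m) h2 hlt
      rcases Nat.eq_zero_or_pos c with rfl | hc0
      · exact hcm
      · exact absurd hts (not_isTr hc (by omega) hcm)
    cls := fun c hc m hm => by
      obtain ⟨h, hh, e⟩ := mem_conj hc hm
      obtain ⟨σ, hσ, h1, hval⟩ := lift0 h hh
      exact ⟨σ, hσ, h1, hval _ _ (mem_range' hc (head_mem hc)).2 (mem_range' hc hm).2 e⟩
    swap := by
      obtain ⟨σ, hσ, h1, hval⟩ := lift0 (el 1) (el_mem (by norm_num))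
      have v1 := (base_spec (show 1 < 23 by norm_num)).2.2.2.2.1
      have v2 := (base_spec (show 2 < 23 by norm_num)).2.2.2.2.1
      have b1 := el_bEl (show 1 < 2 by norm_num) (show 1 < 23 by norm_num)
      have b2 := el_bEl (show 1 < 2 by norm_num) (show 2 < 23 by norm_num)
      rw [swap_ok.1, bEl_eq (show 1 < 23 by norm_num), bEl_eq (show 2 < 23 by norm_num)] at b1
      rw [swap_ok.2, bEl_eq (show 1 < 23 by norm_num), bEl_eq (show 2 < 23 by norm_num)] at b2
      exact ⟨σ, hσ, h1, hval _ _ v1 v2 b1, hval _ _ v2 v1 b2⟩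
    sub := fun m hm => ⟨(memO.mp hm).1, fun h0 => by
      have := (memO.mp hm).2
      rw [h0, ιzero] at this
      exact hd1 (isConj_one_left.mp this)⟩
    base := memO.mpr ⟨by norm_num, by rw [ιone]⟩
    maps := fun {σ} ⟨n, _, h⟩ m hm => memO.mpr ⟨(h m (memO.mp hm).1).1,
      (memO.mp hm).2.trans (isConj_iff.mpr ⟨n, (h m (memO.mp hm).1).2.symm⟩)⟩
    trans := fun p hp => by
      obtain ⟨n, hn, e⟩ := trans p (memO.mp hp).1 (memO.mp hp).2
      obtain ⟨σ, hσ⟩ := move n hn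
      exact ⟨σ, ⟨n, hn, hσ⟩, ιinj (hσ 1 (by norm_num)).1 (memO.mp hp).1
        ((hσ 1 (by norm_num)).2.trans (by rw [ιone, e]))⟩
    two := by
      obtain ⟨k, hk, hne⟩ := hnwc
      set e : ↥C := ⟨k * d * k⁻¹, hk⟩
      have he : e * e = 1 := Subtype.ext (by
        show k * d * k⁻¹ * (k * d * k⁻¹) = 1
        calc k * d * k⁻¹ * (k * d * k⁻¹) = k * (d * d) * k⁻¹ := by group
          _ = 1 := by rw [hd2, mul_one, mul_inv_cancel])
      obtain ⟨B, hB, hBc, heB⟩ := hlarge e he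
      obtain ⟨c, hc, -⟩ := conjC B hB hBc
      obtain ⟨m, hm, hme⟩ := hc e heB
      have hp : pre m = c * e * c⁻¹ := jinj ((jpre hm).trans hme)
      refine ⟨m, memO.mpr ⟨hm, isConj_iff.mpr ⟨((g * c : ↥C) : G) * k, ?_⟩⟩, fun h1 => ?_⟩
      · show _ = ((g * pre m * g⁻¹ : ↥C) : G)
        rw [hp]
        simp only [Subgroup.coe_mul, InvMemClass.coe_inv, e]
        group
      · have e1 : pre m = Z := by rw [h1]; exact jinj (by rw [jpre (by norm_num), eEl_one]; exact (hφ Z rfl).symm)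
        rw [e1] at hp
        refine hne (congrArg Subtype.val (show e = Z from ?_))
        calc e = c⁻¹ * (c * e * c⁻¹) * c := by group
          _ = c⁻¹ * Z * c := by rw [← hp]
          _ = Z := by rw [mul_assoc, (hZc c).eq, inv_mul_cancel_left] }
  refine ⟨hAe, by rw [hAc]; norm_num, ?_, ?_⟩
  · have hset : {x : G | x ∈ A ∧ IsConj d x} = ι '' (O : Set ℕ) := by
      ext x
      constructor
      · rintro ⟨hx, hc⟩
        obtain ⟨m, hm, rfl⟩ := (memA x).mp hx
        exact ⟨m, memO.mpr ⟨hm, hc⟩, rfl⟩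
      · rintro ⟨m, hm, rfl⟩
        exact ⟨(memA _).mpr ⟨m, (memO.mp hm).1, rfl⟩, (memO.mp hm).2⟩
    rw [hset, Set.InjOn.ncard_image (fun a ha b hb e => ιinj (memO.mp ha).1 (memO.mp hb).1 e),
      Set.ncard_coe_finset, Hh.card_eq]
  · intro x hx y hy cx cy
    obtain ⟨a, ha, rfl⟩ := (memA x).mp hx
    obtain ⟨b, hb, rfl⟩ := (memA y).mp hy
    obtain ⟨n, hn, en⟩ := trans a ha cx
    obtain ⟨n', hn', en'⟩ := trans b hb cy
    refine ⟨n' * n⁻¹, mul_mem hn' (inv_mem hn), ?_⟩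
    rw [← en, ← en']
    group

end CfsgLib.CosetEnum.M23Thompson
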